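import Cfsg.Agent.H42.ThCent.Codes

/-! Conjugates of the frame under the lifts. -/

set_option autoImplicit false
set_option maxRecDepth 100000
set_option Elab.async false

open H42.Tri

namespace H42.ThCent

theorem conj0a : (([0, 1, 2, 3] : List ℕ).all fun j =>
    Nat.beq (mulC (vC 0) (qC j)) (mulC (nfC ((CData.conjV.getD 0 []).getD j 0)) (vC 0))) = true := by
  decide +kernel

theorem conj0b : (([4, 5, 6, 7] : List ℕ).all fun j =>
    Nat.beq (mulC (vC 0) (qC j)) (mulC (nfC ((CData.conjV.getD 0 []).getD j 0)) (vC 0))) = true := by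
  decide +kernel

theorem conj1a : (([0, 1, 2, 3] : List ℕ).all fun j =>
    Nat.beq (mulC (vC 1) (qC j)) (mulC (nfC ((CData.conjV.getD 1 []).getD j 0)) (vC 1))) = true := by
  decide +kernel

theorem conj1b : (([4, 5, 6, 7] : List ℕ).all fun j =>
    Nat.beq (mulC (vC 1) (qC j)) (mulC (nfC ((CData.conjV.getD 1 []).getD j 0)) (vC 1))) = true := by
  decide +kernel

theorem conj2a : (([0, 1, 2, 3] : List ℕ).all fun j =>
    Nat.beq (mulC (vC 2) (qC j)) (mulC (nfC ((CData.conjV.getD 2 []).getD j 0)) (vC 2))) = true := by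
  decide +kernel

theorem conj2b : (([4, 5, 6, 7] : List ℕ).all fun j =>
    Nat.beq (mulC (vC 2) (qC j)) (mulC (nfC ((CData.conjV.getD 2 []).getD j 0)) (vC 2))) = true := by
  decide +kernel

theorem conj3a : (([0, 1, 2, 3] : List ℕ).all fun j =>
    Nat.beq (mulC (vC 3) (qC j)) (mulC (nfC ((CData.conjV.getD 3 []).getD j 0)) (vC 3))) = true := by
  decide +kernel

theorem conj3b : (([4, 5, 6, 7] : List ℕ).all fun j =>
    Nat.beq (mulC (vC 3) (qC j)) (mulC (nfC ((CData.conjV.getD 3 []).getD j 0)) (vC 3))) = true := by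
  decide +kernel

end H42.ThCent
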