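import Cfsg.Agent.H42.ThCent.Codes

/-! Conjugates of the frame under the lifts. -/

set_option autoImplicit false
set_option maxRecDepth 100000
set_option Elab.async false

open H42.Tri

namespace H42.ThCent

theorem conj4a : (([0, 1, 2, 3] : List ℕ).all fun j =>
    Nat.beq (mulC (vC 4) (qC j)) (mulC (nfC ((CData.conjV.getD 4 []).getD j 0)) (vC 4))) = true := by
  decide +kernel

theorem conj4b : (([4, 5, 6, 7] : List ℕ).all fun j =>
    Nat.beq (mulC (vC 4) (qC j)) (mulC (nfC ((CData.conjV.getD 4 []).getD j 0)) (vC 4))) = true := by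
  decide +kernel

theorem conj5a : (([0, 1, 2, 3] : List ℕ).all fun j =>
    Nat.beq (mulC (vC 5) (qC j)) (mulC (nfC ((CData.conjV.getD 5 []).getD j 0)) (vC 5))) = true := by
  decide +kernel

theorem conj5b : (([4, 5, 6, 7] : List ℕ).all fun j =>
    Nat.beq (mulC (vC 5) (qC j)) (mulC (nfC ((CData.conjV.getD 5 []).getD j 0)) (vC 5))) = true := by
  decide +kernel

theorem conj6a : (([0, 1, 2, 3] : List ℕ).all fun j =>
    Nat.beq (mulC (vC 6) (qC j)) (mulC (nfC ((CData.conjV.getD 6 []).getD j 0)) (vC 6))) = true := by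
  decide +kernel

theorem conj6b : (([4, 5, 6, 7] : List ℕ).all fun j =>
    Nat.beq (mulC (vC 6) (qC j)) (mulC (nfC ((CData.conjV.getD 6 []).getD j 0)) (vC 6))) = true := by
  decide +kernel

end H42.ThCent
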