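import Cfsg.Agent.H42.ThCent.Codes

/-! The frame and the relations of the lifts. -/

set_option autoImplicit false
set_option maxRecDepth 100000
set_option Elab.async false

open H42.Tri

namespace H42.ThCent

theorem frame_sq : ((List.range 8).all fun j =>
    Nat.beq (mulC (qC j) (qC j)) (nfC (CData.sqN.getD j 0)) &&
      Nat.beq (mulC (letC 0) (qC j)) (mulC (qC j) (letC 0))) = true ∧
    Nat.beq (mulC (letC 0) (letC 0)) LetData.cI = true ∧
    ((List.range 7).all fun i => Nat.beq (mulC (vC i) (letC 0)) (mulC (letC 0) (vC i))) = true := by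
  decide +kernel

theorem frame_com : ((List.range 8).all fun i => (List.range 8).all fun j =>
    !Nat.blt i j || Nat.beq j (i + 4) || Nat.beq (mulC (qC i) (qC j)) (mulC (qC j) (qC i))) = true := by
  decide +kernel

theorem frame_pair : ((List.range 4).all fun i =>
    Nat.beq (mulC (qC i) (qC (i + 4))) (mulC (letC 0) (mulC (qC (i + 4)) (qC i)))) = true := by
  decide +kernel

theorem rel_cube : Nat.beq (mulC (vC 0) (mulC (vC 0) (vC 0))) (nfC CData.cubeN) = true := by
  decide +kernel

theorem rel_sq : ((List.range 6).all fun i =>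
    Nat.beq (mulC (vC (i + 1)) (vC (i + 1))) (nfC (CData.sqV.getD i 0))) = true := by decide +kernel

theorem rel_braid0 : (([0, 1, 2] : List ℕ).all fun i =>
    Nat.beq (vwC [i, i + 1, i, i + 1, i, i + 1]) (nfC (CData.braidV.getD i 0))) = true := by
  decide +kernel

theorem rel_braid1 : (([3, 4, 5] : List ℕ).all fun i =>
    Nat.beq (vwC [i, i + 1, i, i + 1, i, i + 1]) (nfC (CData.braidV.getD i 0))) = true := by
  decide +kernel

theorem rel_far0 : (((CData.farV.drop 0).take 5).all fun t =>
    Nat.beq (vwC [t.1, t.2.1, t.1, t.2.1]) (nfC t.2.2)) = true := by decide +kernel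

theorem rel_far1 : (((CData.farV.drop 5).take 5).all fun t =>
    Nat.beq (vwC [t.1, t.2.1, t.1, t.2.1]) (nfC t.2.2)) = true := by decide +kernel

theorem rel_far2 : (((CData.farV.drop 10).take 5).all fun t =>
    Nat.beq (vwC [t.1, t.2.1, t.1, t.2.1]) (nfC t.2.2)) = true := by decide +kernel

theorem img0 : (((CData.img.drop 0).take 2).all fun t =>
    Nat.beq (mulC (vwC t.2.1) (nfC t.2.2)) (letC t.1)) = true := by decide +kernel

theorem img1 : (((CData.img.drop 2).take 2).all fun t =>
    Nat.beq (mulC (vwC t.2.1) (nfC t.2.2)) (letC t.1)) = true := by decide +kernel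

theorem img2 : (((CData.img.drop 4).take 2).all fun t =>
    Nat.beq (mulC (vwC t.2.1) (nfC t.2.2)) (letC t.1)) = true := by decide +kernel

/-- The nine-th square of the first lift. -/
noncomputable def v0pow : ℕ :=
  Nat.rec (motive := fun _ => ℕ) (vC 0) (fun _ ih => fz ih fun c => mulC c c) 9

theorem v0pow_ne : ((plusP 248 v0pow).testBit (248 * CData.entV.1 + CData.entV.2) ==
    (plusP 248 LetData.cI).testBit (248 * CData.entV.1 + CData.entV.2)) = false := by decide +kernel

theorem a_ne : ((plusP 248 (letC 0)).testBit (248 * CData.entA.1 + CData.entA.2) ==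
    (plusP 248 LetData.cI).testBit (248 * CData.entA.1 + CData.entA.2)) = false := by decide +kernel

end H42.ThCent
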