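import Cfsg.Agent.H42.ThCent.Alt
import Cfsg.Agent.H42.ThCent.Frame
import Cfsg.Prelude.Def_Sporadic

/-!
Seven elements with Carmichael's relations modulo an extraspecial group of order `2 ^ 9` in the
centraliser of an involution: structure of that centraliser, and a lower bound for its
intersection with another subgroup.
-/

set_option autoImplicit false

open Subgroup Equiv

namespace H42.ThCent

variable {G : Type*} [Group G] [Finite G] {z : G} {q : Fin 8 → G}

/-- The hypotheses on the lifts. -/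
structure Lifts (hF : Frame z q) (v : ℕ → G) : Prop where
  vz : ∀ i < 7, v i * z = z * v i
  conj : ∀ i < 7, ∀ j, v i * q j * (v i)⁻¹ ∈ hF.span
  cube : v 0 ^ 3 ∈ hF.span
  sq : ∀ i, 1 ≤ i → i < 7 → v i ^ 2 ∈ hF.span
  braid : ∀ i, i + 1 < 7 → (v i * v (i + 1)) ^ 3 ∈ hF.span
  far : ∀ i j, i + 1 < j → j < 7 → (v i * v j) ^ 2 ∈ hF.span
  ne : v 0 ∉ hF.span

/-- The group generated by the frame and the lifts. -/
def C0 (hF : Frame z q) (v : ℕ → G) : Subgroup G :=
  closure ((hF.span : Set G) ∪ v '' Set.Iio 7)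

variable {hF : Frame z q} {v : ℕ → G}

theorem span_le_C0 : hF.span ≤ C0 hF v := fun _ hx => subset_closure (Or.inl hx)

theorem v_mem {i : ℕ} (hi : i < 7) : v i ∈ C0 hF v := subset_closure (Or.inr ⟨i, hi, rfl⟩)

theorem C0_le (h : Lifts hF v) : C0 hF v ≤ centralizer {z} := by
  rw [C0, closure_le]
  rintro g (hg | ⟨i, hi, rfl⟩)
  · refine (closure_le (centralizer {z})).2 ?_ hg
    rintro _ (rfl | ⟨j, rfl⟩)
    · exact mem_centralizer_singleton_iff.2 rfl
    · exact mem_centralizer_singleton_iff.2 (hF.zq j).symm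
  · exact mem_centralizer_singleton_iff.2 (h.vz i hi)

theorem conj_span (h : Lifts hF v) {i : ℕ} (hi : i < 7) {x : G} (hx : x ∈ hF.span) :
    v i * x * (v i)⁻¹ ∈ hF.span := by
  have hle : hF.span.map (MulAut.conj (v i)).toMonoidHom ≤ hF.span := by
    rw [map_le_iff_le_comap, Frame.span, closure_le]
    rintro w (hw | ⟨j, rfl⟩)
    · subst hw
      show v i * w * (v i)⁻¹ ∈ hF.span
      rw [h.vz i hi, mul_inv_cancel_right]
      exact subset_closure (Set.mem_insert _ _)
    · exact h.conj i hi j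
  exact hle ⟨x, hx, rfl⟩

theorem normal_span (h : Lifts hF v) : (hF.span.subgroupOf (C0 hF v)).Normal := by
  refine normal_subgroupOf_of_le_normalizer ?_
  rw [C0, closure_le]
  rintro g (hg | ⟨i, hi, rfl⟩)
  · exact le_normalizer hg
  · haveI : Fintype (hF.span : Set G) := Fintype.ofFinite _
    exact Subgroup.mem_normalizer_fintype fun x hx => conj_span h hi hx

theorem alt_quot (h : Lifts hF v) :
    haveI := normal_span h
    ∃ e : ↥(alternatingGroup (Fin 9)) ≃* C0 hF v ⧸ hF.span.subgroupOf (C0 hF v),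
      ∀ (p : ↥(alternatingGroup (Fin 9))) (i : ℕ) (hi : i < 7),
        (p : Perm (Fin 9)) = Cfsg.Agent.S3335.im 7 ⟨i, hi⟩ →
          e p = QuotientGroup.mk ⟨v i, v_mem hi⟩ := by
  classical
  haveI := normal_span h
  let Q' := hF.span.subgroupOf (C0 hF v)
  let a : ℕ → C0 hF v ⧸ Q' := fun i =>
    if hi : i < 7 then QuotientGroup.mk ⟨v i, v_mem hi⟩ else 1
  have ha : ∀ i (hi : i < 7), a i = QuotientGroup.mk ⟨v i, v_mem hi⟩ := fun i hi => dif_pos hi
  have one : ∀ (x : C0 hF v), (x : G) ∈ hF.span → (QuotientGroup.mk x : C0 hF v ⧸ Q') = 1 :=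
    fun x hx => (QuotientGroup.eq_one_iff x).2 (mem_subgroupOf.2 hx)
  have hc : H59.Carm a 7 := by
    refine ⟨fun h0 => ?_, fun i h1 h2 => ?_, fun i hi => ?_, fun i j h1 h2 => ?_⟩
    · rw [ha 0 h0, ← QuotientGroup.mk_pow]; exact one _ h.cube
    · rw [ha i h2, ← QuotientGroup.mk_pow]; exact one _ (h.sq i h1 h2)
    · rw [ha i (by omega), ha (i + 1) hi, ← QuotientGroup.mk_mul, ← QuotientGroup.mk_pow]
      exact one _ (h.braid i hi)
    · rw [ha i (by omega), ha j h2, ← QuotientGroup.mk_mul, ← QuotientGroup.mk_pow]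
      exact one _ (h.far i j h1 h2)
  have h0 : a 0 ≠ 1 := by
    rw [ha 0 (by norm_num)]
    exact fun e => h.ne (mem_subgroupOf.1 ((QuotientGroup.eq_one_iff _).1 e))
  obtain ⟨f, hf, -, hfg⟩ := exists_alt a hc h0
  have hsurj : Function.Surjective f := by
    rw [← MonoidHom.range_eq_top, eq_top_iff]
    intro c htop
    obtain ⟨⟨g, hg⟩, rfl⟩ := QuotientGroup.mk_surjective c
    clear htop
    show (QuotientGroup.mk ⟨g, hg⟩ : C0 hF v ⧸ Q') ∈ f.range
    induction hg using closure_induction with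
    | mem w hw =>
      rcases hw with hw | ⟨i, hi, rfl⟩
      · exact ⟨1, by rw [map_one]; exact (one _ hw).symm⟩
      · exact ⟨⟨Cfsg.Agent.S3335.im 7 ⟨i, hi⟩, Cfsg.Agent.S3335.im_mem _⟩,
          (hfg _ i hi rfl).trans (ha i hi)⟩
    | one => exact one_mem _
    | mul x y hx hy ihx ihy =>
      have := mul_mem ihx ihy
      rwa [← QuotientGroup.mk_mul] at this
    | inv x hx ihx =>
      have := inv_mem ihx
      rwa [← QuotientGroup.mk_inv] at this
  exact ⟨MulEquiv.ofBijective f ⟨hf, hsurj⟩, fun p i hi hp => (hfg p i hi hp).trans (ha i hi)⟩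

theorem card_alt : Nat.card ↥(alternatingGroup (Fin 9)) = 181440 := by
  have h := two_mul_nat_card_alternatingGroup (α := Fin 9)
  rw [Nat.card_perm, Nat.card_fin, show Nat.factorial 9 = 362880 by decide +kernel] at h
  omega

theorem card_C0 (h : Lifts hF v) : Nat.card (C0 hF v) = 92897280 := by
  haveI := normal_span h
  obtain ⟨e, -⟩ := alt_quot h
  rw [card_eq_card_quotient_mul_card_subgroup (hF.span.subgroupOf (C0 hF v)),
    ← Nat.card_congr e.toEquiv, card_alt, Nat.card_congr (subgroupOfEquivOfLe span_le_C0).toEquiv,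
    hF.extraspecial.2]
  norm_num

/-- The structure of the centraliser, given that it is no larger than expected. -/
theorem body (h : Lifts hF v) (hup : Nat.card ↥(centralizer ({z} : Set G)) ≤ 92897280) :
    ∃ z : G, orderOf z = 2 ∧ ∃ (Q : Subgroup (Subgroup.centralizer ({z} : Set G))) (_ : Q.Normal),
      Nat.card Q = 2 ^ 9 ∧ Cfsg.IsExtraspecial 2 Q ∧
      Nonempty ((Subgroup.centralizer ({z} : Set G)) ⧸ Q ≃* alternatingGroup (Fin 9)) := by
  have hC : C0 hF v = centralizer {z} := eq_of_le_of_card_ge (C0_le h) (by rw [card_C0 h]; exact hup)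
  have hn := normal_span h
  obtain ⟨e, -⟩ := alt_quot h
  have hle : hF.span ≤ centralizer ({z} : Set G) := hC ▸ span_le_C0
  have hz : orderOf z = 2 := by
    haveI : Fact (Nat.Prime 2) := ⟨Nat.prime_two⟩
    exact orderOf_eq_prime (by rw [pow_two]; exact hF.z2) hF.zne
  refine ⟨z, hz, hF.span.subgroupOf (centralizer {z}), ?_⟩
  revert hn e hle
  rw [← hC]
  intro hn e hle
  let iso : ↥(hF.span.subgroupOf (C0 hF v)) ≃* ↥hF.span := subgroupOfEquivOfLe hle
  refine ⟨hn, ?_, isExtraspecial_of_equiv iso.symm hF.extraspecial.1, ⟨e.symm⟩⟩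
  rw [Nat.card_congr iso.toEquiv, hF.extraspecial.2]

/-- Words in the lifts. -/
def vW (v : ℕ → G) (w : List ℕ) : G := (w.map v).prod

/-- Words in the standard generators. -/
def imW (w : List ℕ) : Perm (Fin 9) :=
  (w.map fun i => if hi : i < 7 then Cfsg.Agent.S3335.im 7 ⟨i, hi⟩ else 1).prod

/-- A subgroup `N` containing the frame and, modulo it, the listed words, meets the centraliser
in at least the expected number of elements. -/
theorem card_meet (h : Lifts hF v) (N : Subgroup G) (hN : hF.span ≤ N) (L : List (List ℕ))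
    (hlt : ∀ w ∈ L, ∀ i ∈ w, i < 7) (hL : ∀ w ∈ L, ∃ s ∈ hF.span, vW v w * s ∈ N) :
    512 * Nat.card ↥(closure (imW '' {w | w ∈ L})) ≤ Nat.card ↥(centralizer {z} ⊓ N) := by
  classical
  haveI := normal_span h
  obtain ⟨e, he⟩ := alt_quot h
  set Q' := hF.span.subgroupOf (C0 hF v) with hQ'
  set K := N.subgroupOf (C0 hF v) with hK
  let π := QuotientGroup.mk' Q'
  have hQK : Q' ≤ K := fun x hx => mem_subgroupOf.2 (hN (mem_subgroupOf.1 hx))
  let R : Subgroup (Perm (Fin 9)) := ((K.map π).comap e.toMonoidHom).map (alternatingGroup (Fin 9)).subtype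
  have hword : ∀ w : List ℕ, (∀ i ∈ w, i < 7) → ∃ p : ↥(alternatingGroup (Fin 9)),
      (p : Perm (Fin 9)) = imW w ∧ ∃ hm : vW v w ∈ C0 hF v, e p = QuotientGroup.mk ⟨vW v w, hm⟩ := by
    intro w
    induction w with
    | nil => intro _; exact ⟨1, rfl, one_mem _, by rw [map_one]; rfl⟩
    | cons i w ih =>
      intro hw
      obtain ⟨p, hp, hm, hpe⟩ := ih fun j hj => hw j (List.mem_cons_of_mem _ hj)
      have hi := hw i List.mem_cons_self
      refine ⟨⟨Cfsg.Agent.S3335.im 7 ⟨i, hi⟩, Cfsg.Agent.S3335.im_mem _⟩ * p, ?_,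
        mul_mem (v_mem hi) hm, ?_⟩
      · show Cfsg.Agent.S3335.im 7 ⟨i, hi⟩ * (p : Perm (Fin 9)) = _
        rw [hp, imW, imW, List.map_cons, List.prod_cons, dif_pos hi]
      · rw [map_mul, he _ i hi rfl, hpe, ← QuotientGroup.mk_mul]
        rfl
  have hR : closure (imW '' {w | w ∈ L}) ≤ R := by
    rw [closure_le]
    rintro _ ⟨w, hw, rfl⟩
    obtain ⟨p, hp, hm, hpe⟩ := hword w (hlt w hw)
    obtain ⟨s, hs, hsN⟩ := hL w hw
    refine ⟨p, mem_comap.2 ⟨⟨vW v w * s, mul_mem hm (span_le_C0 hs)⟩, mem_subgroupOf.2 hsN, ?_⟩, hp⟩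
    show QuotientGroup.mk _ = e p
    rw [hpe, QuotientGroup.eq]
    refine mem_subgroupOf.2 ?_
    simp only [coe_mul, coe_inv, mul_inv_rev]
    rw [show s⁻¹ * (vW v w)⁻¹ * vW v w = s⁻¹ by group]
    exact inv_mem hs
  calc 512 * Nat.card ↥(closure (imW '' {w | w ∈ L})) ≤ 512 * Nat.card R :=
        Nat.mul_le_mul_left _ (card_le_of_le hR)
    _ = Nat.card Q' * Nat.card (K.map π) := by
        rw [Nat.card_congr (subgroupOfEquivOfLe span_le_C0).toEquiv, hF.extraspecial.2]
        congr 1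
        rw [card_map_of_injective Subtype.coe_injective, comap_equiv_eq_map_symm',
          card_map_of_injective e.symm.injective]
    _ = Nat.card K := by
        have hr : K.map π = (π.comp K.subtype).range := by
          rw [MonoidHom.range_comp, range_subtype]
        have hk : (π.comp K.subtype).ker = Q'.subgroupOf K := by
          ext x
          rw [MonoidHom.mem_ker, mem_subgroupOf]
          exact QuotientGroup.eq_one_iff _
        rw [hr, ← card_mul_index (π.comp K.subtype).ker, index_ker, hk,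
          Nat.card_congr (subgroupOfEquivOfLe hQK).toEquiv]
    _ ≤ Nat.card ↥(centralizer {z} ⊓ N) := by
        refine Nat.card_le_card_of_injective (fun x => ⟨((x : C0 hF v) : G), C0_le h (x : C0 hF v).2,
          mem_subgroupOf.1 x.2⟩) fun a b hab => ?_
        exact Subtype.ext (Subtype.ext (congrArg (fun y : ↥(centralizer {z} ⊓ N) => (y : G)) hab))

end H42.ThCent
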