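import Cfsg.Agent.H42.ThCent.Words
import Cfsg.Agent.H42.ThCent.CData

/-! Codes of the frame and of the lifts, and how the checks are evaluated. -/

set_option autoImplicit false
set_option maxRecDepth 100000
set_option Elab.async false

open H42.Tri

namespace H42.ThCent

/-- The code of a frame element. -/
def qC : ℕ → ℕ
  | 0 => CData.q0
  | 1 => CData.q1
  | 2 => CData.q2
  | 3 => CData.q3
  | 4 => CData.q4
  | 5 => CData.q5
  | 6 => CData.q6
  | _ => CData.q7

/-- The code of a lift. -/
def vC : ℕ → ℕ
  | 0 => CData.v0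
  | 1 => CData.v1
  | 2 => CData.v2
  | 3 => CData.v3
  | 4 => CData.v4
  | 5 => CData.v5
  | _ => CData.v6

/-- Multiply by the frame codes selected by the bits of `m`; bit 8 selects the involution. -/
noncomputable def nfC (m : ℕ) : ℕ :=
  List.rec (motive := fun _ => ℕ) (bif m.testBit 8 then letC 0 else LetData.cI)
    (fun j _ ih => bif m.testBit j then mulC (qC j) ih else ih) [0, 1, 2, 3, 4, 5, 6, 7]

/-- A product of lift codes. -/
noncomputable def vwC (w : List ℕ) : ℕ :=
  List.rec (motive := fun _ => ℕ) LetData.cI (fun i _ ih => mulC (vC i) ih) w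

theorem qW0 : evC (CData.qW.getD 0 []) = qC 0 := by decide +kernel

theorem qW1 : evC (CData.qW.getD 1 []) = qC 1 := by decide +kernel

theorem qW2 : evC (CData.qW.getD 2 []) = qC 2 := by decide +kernel

theorem qW3 : evC (CData.qW.getD 3 []) = qC 3 := by decide +kernel

theorem qW4 : evC (CData.qW.getD 4 []) = qC 4 := by decide +kernel

theorem qW5 : evC (CData.qW.getD 5 []) = qC 5 := by decide +kernel

theorem qW6 : evC (CData.qW.getD 6 []) = qC 6 := by decide +kernel

theorem qW7 : evC (CData.qW.getD 7 []) = qC 7 := by decide +kernel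

theorem vW0 : evC (CData.vW.getD 0 []) = vC 0 := by decide +kernel

theorem vW1 : evC (CData.vW.getD 1 []) = vC 1 := by decide +kernel

theorem vW2 : evC (CData.vW.getD 2 []) = vC 2 := by decide +kernel

theorem vW3 : evC (CData.vW.getD 3 []) = vC 3 := by decide +kernel

theorem vW4 : evC (CData.vW.getD 4 []) = vC 4 := by decide +kernel

theorem vW5 : evC (CData.vW.getD 5 []) = vC 5 := by decide +kernel

theorem vW6 : evC (CData.vW.getD 6 []) = vC 6 := by decide +kernel

end H42.ThCent
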