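import Cfsg.Agent.S3335

/-!
Seven elements with Carmichael's relations give a copy of the alternating group of degree nine.
-/

set_option autoImplicit false

namespace H42.ThCent

open Equiv

theorem exists_alt {G : Type*} [Group G] (a : ℕ → G) (h : H59.Carm a 7) (h0 : a 0 ≠ 1) :
    ∃ f : ↥(alternatingGroup (Fin 9)) →* G,
      Function.Injective f ∧ f.range ≤ Subgroup.closure (a '' Set.Iio 7) ∧
        ∀ (p : ↥(alternatingGroup (Fin 9))) (i : ℕ) (hi : i < 7),
          (p : Perm (Fin 9)) = Cfsg.Agent.S3335.im 7 ⟨i, hi⟩ → f p = a i := by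
  classical
  let s : ℕ → Perm (Fin 9) := fun i => if hi : i < 7 then Cfsg.Agent.S3335.im 7 ⟨i, hi⟩ else 1
  have hs : ∀ i (hi : i < 7), s i = Cfsg.Agent.S3335.im 7 ⟨i, hi⟩ := fun i hi => dif_pos hi
  let y : ℕ → G × Perm (Fin 9) := fun i => (a i, s i)
  have hy : H59.Carm y 7 := by
    constructor
    · intro hm
      refine Prod.ext (h.cube hm) ?_
      show s 0 ^ 3 = 1
      rw [hs 0 hm]; exact Cfsg.Agent.S3335.rel1 _ rfl
    · intro i h1 h2
      refine Prod.ext (h.sq i h1 h2) ?_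
      show s i ^ 2 = 1
      rw [hs i h2]; exact Cfsg.Agent.S3335.rel2 _ h1
    · intro i hi
      refine Prod.ext (h.braid i hi) ?_
      show (s i * s (i + 1)) ^ 3 = 1
      rw [hs i (by omega), hs (i + 1) hi]; exact Cfsg.Agent.S3335.rel3 _ _ rfl
    · intro i j h1 h2
      refine Prod.ext (h.far i j h1 h2) ?_
      show (s i * s j) ^ 2 = 1
      rw [hs i (by omega), hs j h2]; exact Cfsg.Agent.S3335.rel4 _ _ h1
  obtain ⟨hfin, hcard⟩ := H59.card_le_carmichael 7 (G × Perm (Fin 9)) y hy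
  set H := Subgroup.closure (y '' Set.Iio 7) with hH
  have hmap : H.map (MonoidHom.snd G (Perm (Fin 9))) = alternatingGroup (Fin 9) := by
    rw [hH, MonoidHom.map_closure, ← Cfsg.Agent.S3335.im_closure (m := 7) (by norm_num)]
    refine congrArg Subgroup.closure (Set.ext fun p => ⟨?_, ?_⟩)
    · rintro ⟨_, ⟨i, hi, rfl⟩, rfl⟩
      exact ⟨⟨i, hi⟩, (hs i hi).symm⟩
    · rintro ⟨i, rfl⟩
      exact ⟨y i.val, ⟨i.val, i.2, rfl⟩, hs i.val i.2⟩
  let π : ↥H →* ↥(alternatingGroup (Fin 9)) :=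
    ((MonoidHom.snd G (Perm (Fin 9))).comp H.subtype).codRestrict _ fun z => by
      rw [← hmap]; exact Subgroup.mem_map_of_mem _ z.2
  have hsurj : Function.Surjective π := by
    rintro ⟨p, hp⟩
    rw [← hmap] at hp
    obtain ⟨z, hz, rfl⟩ := hp
    exact ⟨⟨z, hz⟩, rfl⟩
  have hA : 2 * Nat.card ↥(alternatingGroup (Fin 9)) = Nat.factorial (7 + 2) := by
    rw [two_mul_nat_card_alternatingGroup, Nat.card_perm, Nat.card_fin]
  have hle := Nat.card_le_card_of_surjective _ hsurj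
  have hbij : Function.Bijective π := (Nat.bijective_iff_surjective_and_card _).mpr ⟨hsurj, by omega⟩
  let e := MulEquiv.ofBijective π hbij
  let f : ↥(alternatingGroup (Fin 9)) →* G := ((MonoidHom.fst G (Perm (Fin 9))).comp H.subtype).comp e.symm.toMonoidHom
  refine ⟨f, ?_, ?_, fun p i hi hp => ?_⟩
  · rw [← MonoidHom.ker_eq_bot_iff]
    haveI : IsSimpleGroup ↥(alternatingGroup (Fin 9)) := alternatingGroup.isSimpleGroup (by simp)
    refine ((MonoidHom.normal_ker f).eq_bot_or_eq_top).resolve_right fun ht => h0 ?_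
    have hy0 : y 0 ∈ H := Subgroup.subset_closure ⟨0, Nat.succ_pos 6, rfl⟩
    have h1 : π ⟨y 0, hy0⟩ ∈ f.ker := ht ▸ Subgroup.mem_top _
    rw [MonoidHom.mem_ker] at h1
    have h2 : f (π ⟨y 0, hy0⟩) = a 0 := by
      simp only [f, MonoidHom.comp_apply, MulEquiv.coe_toMonoidHom]
      rw [show π ⟨y 0, hy0⟩ = e ⟨y 0, hy0⟩ from rfl, MulEquiv.symm_apply_apply]
      rfl
    rw [← h2, h1]
  · rintro _ ⟨p, rfl⟩
    have hle' : H.map (MonoidHom.fst G (Perm (Fin 9))) ≤ Subgroup.closure (a '' Set.Iio 7) := by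
      rw [hH, MonoidHom.map_closure, ← Set.image_comp]
      exact le_rfl
    exact hle' (Subgroup.mem_map_of_mem (MonoidHom.fst G (Perm (Fin 9))) (e.symm p).2)
  · have hmem : y i ∈ H := Subgroup.subset_closure ⟨i, hi, rfl⟩
    have hp' : p = e ⟨y i, hmem⟩ := Subtype.ext (hp.trans (hs i hi).symm)
    simp only [f, MonoidHom.comp_apply, MulEquiv.coe_toMonoidHom]
    rw [hp', MulEquiv.symm_apply_apply]
    rfl

end H42.ThCent
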