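import Cfsg.Agent.H42.ThCent.Main
import Cfsg.Agent.H96.ThSimple.Final

/-!
The base cosets of the double coset enumeration are those of the tree words used for the count.
-/

set_option autoImplicit false
set_option maxRecDepth 100000
set_option maxHeartbeats 1000000

open Cfsg H42.Tri

namespace H42.ThCent

attribute [local irreducible] mulT plusP minusP matT mulC letC

/-- A certificate letter as a letter. -/
def toLet (x : ℕ) : ℕ := ([0, 1, 2, 3, 4, 5, 8, 6, 9] : List ℕ).getD x 11

/-- The inverse of a letter. -/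
def invLet (i : ℕ) : ℕ := ([0, 1, 2, 3, 4, 8, 9, 10, 5, 6, 7] : List ℕ).getD i 11

/-- The position of an orbit of the certificate among those ordered by length. -/
def posOf (j : ℕ) : ℕ := ([0, 1, 2, 4, 5, 9, 10, 7, 6, 8, 3] : List ℕ).getD j 0

theorem posOf_orbit : ∀ i : Fin 11, posOf (H91.Th.orbitNo i) = i.val := by decide +kernel

/-- The word of a tree edge. -/
noncomputable def edgeStep (k : ℕ) : List ℕ :=
  (H91.Th.cert.mw k).map toLet ++ 10 :: ((H91.Th.cert.nw k).map toLet).reverse.map invLet

/-- A tree edge extends the tree words. -/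
noncomputable def edgeOK (k : ℕ) : Bool :=
  Nat.beq (H91.Th.cert.dst k) (k + 1) && Nat.ble (H91.Th.cert.src k) k &&
    (KData.treeI.getD (posOf (k + 1)) [] ==
      edgeStep k ++ KData.treeI.getD (posOf (H91.Th.cert.src k)) []) &&
    (H91.Th.cert.mw k).all (fun x => Nat.blt x 9) && (H91.Th.cert.nw k).all (fun x => Nat.blt x 9)

theorem edges_ok : ((List.range 10).all edgeOK) = true := by decide +kernel

theorem tree_root : KData.treeI.getD (posOf 0) [] = [] := by decide +kernel

variable (M : Model)

include M in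
theorem lt_invLet {i : ℕ} (hi : i < 11) : lt i * lt (invLet i) = 1 := by
  have h0 : ∀ i < 11, (i, invLet i) ∈ ([(0, 0), (1, 1), (2, 2), (3, 3), (4, 4), (5, 8), (8, 5),
      (6, 9), (9, 6), (7, 10), (10, 7)] : List (ℕ × ℕ)) := by decide +kernel
  have g1 : Is (M.rho (lt i * lt (invLet i))) (mulC (letC i) (letC (invLet i))) := by
    rw [map_mul]; exact (is_lt M i).mul (is_lt M _)
  have g2 : Is (M.rho 1) LetData.cI := by rw [map_one]; exact is_one
  exact eqB M g1 g2 (List.all_eq_true.1 pair_ok _ (h0 i hi))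

include M in
theorem evG_inv : ∀ w : List ℕ, (∀ i ∈ w, i < 11) → (evG w)⁻¹ = evG (w.reverse.map invLet) := by
  intro w
  induction w with
  | nil => intro _; simp [evG]
  | cons i w ih =>
    intro h
    rw [evG_cons, mul_inv_rev, ih fun j hj => h j (List.mem_cons_of_mem _ hj),
      inv_eq_of_mul_eq_one_right (lt_invLet M (h i List.mem_cons_self)), List.reverse_cons,
      List.map_append, evG_append, List.map_cons, List.map_nil, evG_cons, evG_nil, mul_one]

include M in
theorem code_toLet {x : ℕ} (hx : x < 9) : H93.Th.code (x + 2) = lt (toLet x) := by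
  have hs : (lt 5)⁻¹ = lt 8 := inv_eq_of_mul_eq_one_right (lt_invLet M (show 5 < 11 by norm_num))
  have ht : (lt 6)⁻¹ = lt 9 := inv_eq_of_mul_eq_one_right (lt_invLet M (show 6 < 11 by norm_num))
  interval_cases x
  · rfl
  · rfl
  · rfl
  · rfl
  · rfl
  · rfl
  · exact hs
  · rfl
  · exact ht

include M in
theorem prod_codes : ∀ w : List ℕ, (∀ x ∈ w, x < 9) →
    (w.map fun x => H93.Th.code (x + 2)).prod = evG (w.map toLet) := by
  intro w
  induction w with
  | nil => intro _; rfl
  | cons x w ih =>
    intro h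
    rw [List.map_cons, List.prod_cons, List.map_cons, evG_cons,
      ih fun j hj => h j (List.mem_cons_of_mem _ hj), code_toLet M (h x List.mem_cons_self)]

theorem toLet_lt : ∀ x < 9, toLet x < 11 := by decide +kernel

/-- A coset in the presented group. -/
abbrev CosT : Type := T ⧸ H22Th.iota.range

include M in
theorem base_coset [Finite H22Th.P]
    (hd : (H93.Th.im Cfsg.Spor.Th.u)⁻¹ * H91.Th.word 15 * H93.Th.im Cfsg.Spor.Th.u = H91.Th.word 22) :
    ∀ j ≤ 10, (H91.Th.amalgam H22Th.rep17199 H22Th.card_P.le hd).q H91.Th.treeList j =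
      ((evG (KData.treeI.getD (posOf j) []) : T) : CosT) := by
  set A := H91.Th.amalgam H22Th.rep17199 H22Th.card_P.le hd with hA
  intro j
  induction j using Nat.strong_induction_on with
  | _ j ih =>
    intro hj
    rcases Nat.eq_zero_or_pos j with rfl | hpos
    · rw [tree_root, evG_nil]
      exact A.q_zero _
    obtain ⟨k, rfl⟩ : ∃ k, j = k + 1 := ⟨j - 1, by omega⟩
    have h := List.all_eq_true.1 edges_ok k (List.mem_range.2 (by omega))
    simp only [edgeOK, Bool.and_eq_true, Nat.beq_eq, Nat.ble_eq, beq_iff_eq, List.all_eq_true,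
      Nat.blt_eq] at h
    obtain ⟨⟨⟨⟨hdst, hsrc⟩, hw⟩, hm⟩, hn⟩ := h
    have hk : k ∈ H91.Th.treeList := by
      simp only [H91.Th.treeList, List.mem_cons, List.not_mem_nil, or_false]; omega
    obtain ⟨-, -, e⟩ := A.tree_edge H91.Th.treeList H91.Th.tree_shape k hk
    have es : A.q H91.Th.treeList (H91.Th.cert.src k) =
        ((evG (KData.treeI.getD (posOf (H91.Th.cert.src k)) []) : T) : CosT) :=
      ih _ (by omega) (by omega)
    have hE : ∀ w : List ℕ, (∀ x ∈ w, x < 9) →
        A.ι ((H91.Th.setting H22Th.rep17199 H22Th.card_P.le).e w) = (evG (w.map toLet))⁻¹ := by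
      intro w hw
      rw [← prod_codes M w hw, ← H91.Th.iota_evw]
      refine congrArg H22Th.iota ?_
      show H77.HN.evw H91.Th.pgen w = _
      induction w with
      | nil => rfl
      | cons x w ihw =>
        rw [H77.HN.evw_cons, H77.HN.evw_cons, ihw fun y hy => hw y (List.mem_cons_of_mem _ hy),
          H91.Th.pgen_low (hw x List.mem_cons_self)]
    have e' : (A.gt * A.ι ((H91.Th.setting H22Th.rep17199 H22Th.card_P.le).e (H91.Th.cert.nw k))) •
        A.q H91.Th.treeList (H91.Th.cert.src k) =
      A.ι ((H91.Th.setting H22Th.rep17199 H22Th.card_P.le).e (H91.Th.cert.mw k)) •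
        A.q H91.Th.treeList (H91.Th.cert.dst k) := e
    rw [hE _ hn, hE _ hm, hdst, es, eq_comm, inv_smul_eq_iff] at e'
    have h7 : (lt 7)⁻¹ = lt 10 :=
      inv_eq_of_mul_eq_one_right (lt_invLet M (show 7 < 11 by norm_num))
    have hgt : A.gt = lt 10 := h7
    have e2 : A.q H91.Th.treeList (k + 1) = ((evG ((H91.Th.cert.mw k).map toLet) *
        ((A.gt * (evG ((H91.Th.cert.nw k).map toLet))⁻¹) *
          evG (KData.treeI.getD (posOf (H91.Th.cert.src k)) [])) : T) : CosT) := e'
    rw [e2, hw, edgeStep, evG_append, evG_append, evG_cons,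
      ← evG_inv M ((H91.Th.cert.nw k).map toLet) (by
        intro i hi
        obtain ⟨x, hx, rfl⟩ := List.mem_map.1 hi
        exact toLet_lt x (hn x hx)), hgt]
    exact congrArg _ (by group)

/-- The data of the endgame with these base cosets. -/
theorem centraliser_statement : ∃ (G : Type) (_ : Group G) (_ : Finite G), Cfsg.IsTh G ∧
    ∃ z : G, orderOf z = 2 ∧
      ∃ (Q : Subgroup (Subgroup.centralizer ({z} : Set G))) (_ : Q.Normal), Nat.card Q = 2 ^ 9 ∧
        Cfsg.IsExtraspecial 2 Q ∧ Nonempty ((Subgroup.centralizer ({z} : Set G)) ⧸ Q ≃*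
          alternatingGroup (Fin 9)) := by
  haveI : Finite H22Th.P := Nat.finite_of_card_ne_zero (by rw [H22Th.card_P]; norm_num)
  obtain ⟨D0⟩ := H96.ThSimple.data_exists
  haveI : IsSimpleGroup T := D0.isTh_presented.1
  let M : Model := model
  have hdcd := H93.Th.twist_dcd H93.Th.rho H93.Th.rho_of
  have hd : (H93.Th.im Cfsg.Spor.Th.u)⁻¹ * H91.Th.word 15 * H93.Th.im Cfsg.Spor.Th.u =
      H91.Th.word 22 := by
    rw [H91.Th.word22 H22Th.rep17199 H22Th.card_P.le, ← hdcd]
    simp [H91.Th.word, H91.Th.Data.wordList, H93.Th.code, mul_assoc]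
  set A := H91.Th.amalgam H22Th.rep17199 H22Th.card_P.le hd
  have hV := H91.Th.valid H22Th.rep17199 H22Th.card_P.le hd
  have hlt : ∀ i : Fin 11, H91.Th.orbitNo i < 11 := by decide +kernel
  let q : Fin 11 → CosT := fun i => A.q H91.Th.treeList (H91.Th.orbitNo i)
  let St : Fin 11 → Subgroup H22Th.P :=
    fun i => (H91.Th.setting H22Th.rep17199 H22Th.card_P.le).stab (H91.Th.orbitNo i)
  have hfix : ∀ i, ∀ g ∈ St i, H22Th.iota g • q i = q i := fun i g hg =>
    A.stab_fix hV H91.Th.done_ok (hlt i) hg
  have hidx : ∀ i, (St i).index ≤ H96.ThSimple.dsize i := by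
    intro i
    have key := fun {j ord : ℕ} {ls : List (ℕ × List ℕ)} =>
      H91.Th.stab_index (i := j) (ord := ord) (ls := ls) H22Th.rep17199 H22Th.card_P.le
    have h1 := key H91.Th.levels1_ok
    have h2 := key H91.Th.levels2_ok
    have h3 := key H91.Th.levels3_ok
    have h4 := key H91.Th.levels4_ok
    have h5 := key H91.Th.levels5_ok
    have h6 := key H91.Th.levels6_ok
    have h7 := key H91.Th.levels7_ok
    have h8 := key H91.Th.levels8_ok
    have h9 := key H91.Th.levels9_ok
    have h10 := key H91.Th.levels10_ok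
    simp only [St]
    fin_cases i <;>
      simp only [H91.Th.orbitNo, H96.ThSimple.dsize, List.getD_cons_zero, List.getD_cons_succ] <;>
      first
        | (rw [H91.Th.stab_zero H22Th.rep17199 H22Th.card_P.le, Subgroup.index_top]; exact le_refl _)
        | (simp; omega)
  have hcov : ∀ c, ∃ i, ∃ n : H22Th.P, H22Th.iota n • q i = c := by
    intro c
    obtain ⟨j, hj, n, hn⟩ := A.reached_all hV H91.Th.done_ok (show 0 < 11 by norm_num) c
    obtain ⟨i, rfl⟩ := H91.Th.orbitNo_surj j hj
    exact ⟨i, n, hn⟩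
  let D := H96.ThSimple.dataOfModel (H93.Th.iota_inj H93.Th.rho H93.Th.rho_of)
    (H96.ThSimple.lower_of_dvd H93.Th.rho H96.ThSimple.hdvd) q St hfix hidx hcov
  refine statement_of D fun i => ?_
  show q i = _
  have := base_coset M hd (H91.Th.orbitNo i) (by have := hlt i; omega)
  rw [posOf_orbit] at this
  exact this

end H42.ThCent
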