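import Cfsg.Agent.H42.ThCent.Words
import Cfsg.Agent.H42.ThCent.KData

/-!
The programs for the class of the involution: products along segments and sixteen-entry keys.
-/

set_option autoImplicit false
set_option maxRecDepth 100000

open H42.Tri

namespace H42.ThCent

/-- The code of a segment. -/
def sC : ℕ → ℕ
  | 0 => KData.s0 | 1 => KData.s1 | 2 => KData.s2 | 3 => KData.s3 | 4 => KData.s4 | 5 => KData.s5
  | 6 => KData.s6 | 7 => KData.s7 | 8 => KData.s8 | 9 => KData.s9 | 10 => KData.s10 | 11 => KData.s11
  | 12 => KData.s12 | 13 => KData.s13 | 14 => KData.s14 | 15 => KData.s15 | 16 => KData.s16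
  | 17 => KData.s17 | 18 => KData.s18 | 19 => KData.s19 | 20 => KData.s20 | _ => KData.s21

/-- The code of the inverse of a segment. -/
def rC : ℕ → ℕ
  | 0 => KData.r0 | 1 => KData.r1 | 2 => KData.r2 | 3 => KData.r3 | 4 => KData.r4 | 5 => KData.r5
  | 6 => KData.r6 | 7 => KData.r7 | 8 => KData.r8 | 9 => KData.r9 | 10 => KData.r10 | 11 => KData.r11
  | 12 => KData.r12 | 13 => KData.r13 | 14 => KData.r14 | 15 => KData.r15 | 16 => KData.r16
  | 17 => KData.r17 | 18 => KData.r18 | 19 => KData.r19 | 20 => KData.r20 | _ => KData.r21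

/-- Four bits from place `248 * (4 k + m) + 4 k`. -/
def nib (P k m : ℕ) : ℕ := (P >>> (248 * (4 * k + m) + 4 * k)) % 16

/-- Both planes of row `m` of block `k`. -/
def rowKey (P M k m : ℕ) : ℕ := nib P k m + 16 * nib M k m

/-- The key of block `k`. -/
def keyC (P M k : ℕ) : ℕ :=
  rowKey P M k 0 + 256 * (rowKey P M k 1 + 256 * (rowKey P M k 2 + 256 * rowKey P M k 3))

/-- Is the number one of the keys, possibly. -/
noncomputable def maybeKey (x : ℕ) : Bool :=
  KData.bitmap.testBit (x % 65521) && KData.keys.any (fun y => Nat.beq x y)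

/-- All tests at one member, from the final code. -/
noncomputable def leaf (i c : ℕ) : Bool :=
  fz (plusP 248 c) fun P => fz (minusP 248 c) fun M =>
    Nat.beq (keyC P M 0) (KData.keys.getD i 0) &&
      [1, 2, 3, 4, 5, 6, 7, 8, 9, 10].all fun k =>
        (KData.keep.getD k []).any (fun j => Nat.beq j i) || fz (keyC P M k) fun x => !maybeKey x

/-- Apply the segments of `p`, the last one first, to the states. -/
noncomputable def stateK (p : List ℕ) (K : ℕ → ℕ → Bool) : ℕ → ℕ → Bool :=
  List.rec (motive := fun _ => (ℕ → ℕ → Bool) → ℕ → ℕ → Bool) (fun K A B => K A B)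
    (fun s _ ih K A B => ih (fun A' B' =>
      fz (mulC A' (rC s)) fun A2 => fz (mulC (sC s) B') fun B2 => K A2 B2) A B) p K

/-- The leaf at the states. -/
noncomputable def atNode (i A B : ℕ) : Bool := fz (mulC (mulC A (letC 0)) B) fun c => leaf i c

/-- The leaf one segment further. -/
noncomputable def atChild (i s A B : ℕ) : Bool :=
  fz (mulC (mulC (mulC (mulC A (rC s)) (letC 0)) (sC s)) B) fun c => leaf i c

/-- A chunk: a common part and the members one segment further. -/
noncomputable def chunkOK (c : List ℕ × List (ℕ × ℕ)) : Bool :=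
  stateK c.1 (fun A B => c.2.all fun t => atChild t.2 t.1 A B) KData.xC KData.yC

/-- The chunks from position `lo`. -/
noncomputable def runOK (lo len : ℕ) : Bool := ((KData.chunks.drop lo).take len).all chunkOK

/-- A segment code is the value of its word and its partner is inverse. -/
noncomputable def segOK (j : ℕ) : Bool :=
  Nat.beq (evC (KData.segW.getD j [])) (sC j) && Nat.beq (mulC (rC j) (sC j)) LetData.cI &&
    Nat.beq (Nat.land (plusP 248 (rC j)) (minusP 248 (rC j))) 0

/-- The rows of block `k` of the state agree with the product along the word. -/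
noncomputable def rowsOK (k : ℕ) : Bool :=
  fz ((KData.treeW.getD k []).foldl (fun c i => fz c fun c => mulC c (letC i)) KData.aC) fun A =>
    Nat.beq ((plusP 248 KData.xC >>> (992 * k)) % 2 ^ 992) (plusP 248 A % 2 ^ 992) &&
      Nat.beq ((minusP 248 KData.xC >>> (992 * k)) % 2 ^ 992) (minusP 248 A % 2 ^ 992)

/-- The columns of block `k` agree, after a dense unit and the product along the word, with
those of the starting columns after that unit. -/
noncomputable def colsOK (k : ℕ) : Bool :=
  fz ((KData.treeW.getD k []).foldl (fun c i => fz c fun c => mulC c (letC i)) (letC 7)) fun R =>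
    fz (mulC R KData.yC) fun B => fz (mulC (letC 7) KData.fC) fun B' =>
    fz (plusP 248 B) fun P => fz (minusP 248 B) fun M =>
    fz (plusP 248 B') fun P' => fz (minusP 248 B') fun M' =>
    (List.range 248).all fun j => Nat.beq ((P >>> (248 * j + 4 * k)) % 16) ((P' >>> (248 * j)) % 16) &&
      Nat.beq ((M >>> (248 * j + 4 * k)) % 16) ((M' >>> (248 * j)) % 16)

/-- The inverse of a word's element is the inverse word. -/
noncomputable def invOK (k : ℕ) : Bool :=
  Nat.beq (KData.treeI.getD k []).length (KData.treeW.getD k []).length &&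
    (List.zip (KData.treeW.getD k []).reverse (KData.treeI.getD k [])).all fun t =>
      (t.1 == t.2 && Nat.blt t.1 5) || (t.1 == 5 && t.2 == 8) || (t.1 == 8 && t.2 == 5) ||
      (t.1 == 6 && t.2 == 9) || (t.1 == 9 && t.2 == 6) || (t.1 == 7 && t.2 == 10) || (t.1 == 10 && t.2 == 7)

end H42.ThCent
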