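import Cfsg.Agent.H42.ThCent.KCheck

/-! The columns of the blocks. -/

set_option autoImplicit false
set_option maxRecDepth 100000
set_option Elab.async false

namespace H42.ThCent

theorem cols0 : colsOK 0 = true := by decide +kernel

theorem cols1 : colsOK 1 = true := by decide +kernel

theorem cols2 : colsOK 2 = true := by decide +kernel

theorem cols3 : colsOK 3 = true := by decide +kernel

theorem cols4 : colsOK 4 = true := by decide +kernel

theorem cols5 : colsOK 5 = true := by decide +kernel

end H42.ThCent
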