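import Cfsg.Agent.H42.ThCent.KCheck

/-! The columns of the blocks. -/

set_option autoImplicit false
set_option maxRecDepth 100000
set_option Elab.async false

namespace H42.ThCent

theorem cols6 : colsOK 6 = true := by decide +kernel

theorem cols7 : colsOK 7 = true := by decide +kernel

theorem cols8 : colsOK 8 = true := by decide +kernel

theorem cols9 : colsOK 9 = true := by decide +kernel

theorem cols10 : colsOK 10 = true := by decide +kernel

end H42.ThCent
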