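import Cfsg.Agent.H42.ThCent.KCheck

/-! Members of the class and their keys. -/

set_option autoImplicit false
set_option maxRecDepth 100000
set_option Elab.async false

namespace H42.ThCent

theorem run0 : runOK 0 2 = true := by decide +kernel

theorem run1 : runOK 2 2 = true := by decide +kernel

theorem run2 : runOK 4 2 = true := by decide +kernel

theorem run3 : runOK 6 2 = true := by decide +kernel

theorem run4 : runOK 8 2 = true := by decide +kernel

theorem run5 : runOK 10 2 = true := by decide +kernel

theorem run6 : runOK 12 2 = true := by decide +kernel

theorem run7 : runOK 14 3 = true := by decide +kernel

theorem run8 : runOK 17 3 = true := by decide +kernel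

theorem run9 : runOK 20 2 = true := by decide +kernel

theorem run10 : runOK 22 3 = true := by decide +kernel

end H42.ThCent
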