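import Cfsg.Agent.H42.ThCent.KCheck

/-! Members of the class and their keys. -/

set_option autoImplicit false
set_option maxRecDepth 100000
set_option Elab.async false

namespace H42.ThCent

theorem run11 : runOK 25 4 = true := by decide +kernel

theorem run12 : runOK 29 3 = true := by decide +kernel

theorem run13 : runOK 32 3 = true := by decide +kernel

theorem run14 : runOK 35 3 = true := by decide +kernel

theorem run15 : runOK 38 3 = true := by decide +kernel

theorem run16 : runOK 41 3 = true := by decide +kernel

theorem run17 : runOK 44 4 = true := by decide +kernel

theorem run18 : runOK 48 3 = true := by decide +kernel

theorem run19 : runOK 51 2 = true := by decide +kernel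

theorem run20 : runOK 53 4 = true := by decide +kernel

theorem run21 : runOK 57 3 = true := by decide +kernel

end H42.ThCent
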