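import Cfsg.Agent.H42.ThCent.KCheck

/-! Members of the class and their keys. -/

set_option autoImplicit false
set_option maxRecDepth 100000
set_option Elab.async false

namespace H42.ThCent

theorem run22 : runOK 60 6 = true := by decide +kernel

theorem run23 : runOK 66 4 = true := by decide +kernel

theorem run24 : runOK 70 4 = true := by decide +kernel

theorem run25 : runOK 74 7 = true := by decide +kernel

theorem run26 : runOK 81 8 = true := by decide +kernel

theorem run27 : runOK 89 7 = true := by decide +kernel

theorem run28 : runOK 96 11 = true := by decide +kernel

theorem run29 : runOK 107 10 = true := by decide +kernel

theorem run30 : runOK 117 14 = true := by decide +kernel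

theorem run31 : runOK 131 23 = true := by decide +kernel

end H42.ThCent
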