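import Cfsg.Agent.H42.ThCent.KCheck

/-! The segments. -/

set_option autoImplicit false
set_option maxRecDepth 100000
set_option Elab.async false

namespace H42.ThCent

theorem seg0 : segOK 0 = true := by decide +kernel

theorem seg1 : segOK 1 = true := by decide +kernel

theorem seg2 : segOK 2 = true := by decide +kernel

theorem seg3 : segOK 3 = true := by decide +kernel

theorem seg4 : segOK 4 = true := by decide +kernel

theorem seg5 : segOK 5 = true := by decide +kernel

theorem seg6 : segOK 6 = true := by decide +kernel

theorem seg7 : segOK 7 = true := by decide +kernel

theorem seg8 : segOK 8 = true := by decide +kernel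

theorem seg9 : segOK 9 = true := by decide +kernel

theorem seg10 : segOK 10 = true := by decide +kernel

theorem seg11 : segOK 11 = true := by decide +kernel

theorem seg12 : segOK 12 = true := by decide +kernel

theorem seg13 : segOK 13 = true := by decide +kernel

theorem seg14 : segOK 14 = true := by decide +kernel

theorem seg15 : segOK 15 = true := by decide +kernel

theorem seg16 : segOK 16 = true := by decide +kernel

theorem seg17 : segOK 17 = true := by decide +kernel

theorem seg18 : segOK 18 = true := by decide +kernel

theorem seg19 : segOK 19 = true := by decide +kernel

theorem seg20 : segOK 20 = true := by decide +kernel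

theorem seg21 : segOK 21 = true := by decide +kernel

theorem root_ok : atNode KData.root KData.xC KData.yC = true := by decide +kernel

theorem rows0 : rowsOK 0 = true := by decide +kernel

theorem rows1 : rowsOK 1 = true := by decide +kernel

theorem rows2 : rowsOK 2 = true := by decide +kernel

theorem rows3 : rowsOK 3 = true := by decide +kernel

theorem rows4 : rowsOK 4 = true := by decide +kernel

theorem rows5 : rowsOK 5 = true := by decide +kernel

theorem rows6 : rowsOK 6 = true := by decide +kernel

theorem rows7 : rowsOK 7 = true := by decide +kernel

theorem rows8 : rowsOK 8 = true := by decide +kernel

theorem rows9 : rowsOK 9 = true := by decide +kernel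

theorem rows10 : rowsOK 10 = true := by decide +kernel

theorem inv0 : invOK 0 = true := by decide +kernel

theorem inv1 : invOK 1 = true := by decide +kernel

theorem inv2 : invOK 2 = true := by decide +kernel

theorem inv3 : invOK 3 = true := by decide +kernel

theorem inv4 : invOK 4 = true := by decide +kernel

theorem inv5 : invOK 5 = true := by decide +kernel

theorem inv6 : invOK 6 = true := by decide +kernel

theorem inv7 : invOK 7 = true := by decide +kernel

theorem inv8 : invOK 8 = true := by decide +kernel

theorem inv9 : invOK 9 = true := by decide +kernel

theorem inv10 : invOK 10 = true := by decide +kernel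

end H42.ThCent
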