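import Cfsg.Agent.H42.ThCent.Core
import Cfsg.Agent.H42.ThCent.CData

/-!
Six listed permutations of nine points generate at least 1512 permutations.
-/

set_option autoImplicit false
set_option maxRecDepth 100000

open Subgroup Equiv

namespace H42.ThCent

/-- A permutation with the listed values. -/
def Vals (p : Perm (Fin 9)) (l : List ℕ) : Prop := ∀ i : Fin 9, l.getD i.val 0 = (p i).val

/-- Composition of lists of values. -/
def compL (a b : List ℕ) : List ℕ := b.map fun x => a.getD x 0

theorem Vals.mul {p q : Perm (Fin 9)} {a b : List ℕ} (hp : Vals p a) (hq : Vals q b)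
    (hb : b.length = 9) : Vals (p * q) (compL a b) := by
  intro i
  have hi : i.val < b.length := by rw [hb]; exact i.isLt
  rw [compL, List.getD_eq_getElem _ _ (by simpa using hi), List.getElem_map, Perm.mul_apply]
  have := hq i
  rw [List.getD_eq_getElem _ _ hi] at this
  rw [this]
  exact hp (q i)

theorem vals_one : Vals 1 (List.range 9) := by unfold Vals; decide +kernel

theorem vals_im : ∀ i : Fin 7, ∀ x : Fin 9,
    (CData.im9.getD i.val []).getD x.val 0 = (Cfsg.Agent.S3335.im 7 i x).val := by decide +kernel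

theorem im_len : ∀ i : Fin 7, (CData.im9.getD i.val []).length = 9 := by decide +kernel

/-- The values of a word. -/
def wordL (w : List ℕ) : List ℕ :=
  w.foldr (fun i acc => compL (CData.im9.getD i []) acc) (List.range 9)

theorem vals_word : ∀ w : List ℕ, (∀ i ∈ w, i < 7) →
    Vals (imW w) (wordL w) ∧ (wordL w).length = 9 := by
  intro w
  induction w with
  | nil => intro _; exact ⟨vals_one, rfl⟩
  | cons i w ih =>
    intro h
    obtain ⟨hv, hl⟩ := ih fun j hj => h j (List.mem_cons_of_mem _ hj)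
    have hi := h i List.mem_cons_self
    refine ⟨?_, by show (compL _ (wordL w)).length = 9; simp [compL, hl]⟩
    show Vals (imW (i :: w)) (compL _ (wordL w))
    rw [imW, List.map_cons, List.prod_cons, dif_pos hi]
    exact Vals.mul (fun x => vals_im ⟨i, hi⟩ x) hv hl

theorem gens_ok : (CData.img.map fun t => wordL t.2.1) = CData.gens9 ∧
    (CData.img.all fun t => t.2.1.all fun i => Nat.blt i 7) = true := by decide +kernel

/-- The values of a word in the listed permutations. -/
def nineGenL (w : List ℕ) : List ℕ :=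
  w.foldr (fun j acc => compL (CData.gens9.getD j []) acc) (List.range 9)

/-! Transversals for the chain of stabilisers of 0, 1, 2, 3: words in the listed permutations. -/

def tw0 : List (List ℕ) := [[], [2], [3, 2], [5, 4, 3, 2], [5, 2, 4, 3, 2], [4, 4, 3, 2], [2, 4, 3, 2], [4, 3, 2], [3, 4, 3, 2]]
def tw1 : List (List ℕ) := [[], [3], [5, 4, 3], [3, 4, 4, 3], [4, 4, 3], [2, 4, 2, 3], [4, 3], [3, 4, 3]]
def tw2 : List (List ℕ) := [[], [5, 4], [4, 4, 4], [4, 4], [2, 4, 2], [4], [4, 5, 4]]
def tw3 : List (List ℕ) := [[], [5], [5, 5]]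

/-- The value at `x` of the `i`-th word of `t`. -/
def twV (t : List (List ℕ)) (i x : ℕ) : ℕ := (nineGenL (t.getD i [])).getD x 0

theorem tw_ok : (∀ i : Fin 9, twV tw0 i 0 = i.val) ∧
    (∀ i : Fin 8, twV tw1 i 0 = 0 ∧ twV tw1 i 1 = i.val + 1) ∧
    (∀ i : Fin 7, twV tw2 i 0 = 0 ∧ twV tw2 i 1 = 1 ∧ twV tw2 i 2 = i.val + 2) ∧
    (∀ i : Fin 3, twV tw3 i 0 = 0 ∧ twV tw3 i 1 = 1 ∧ twV tw3 i 2 = 2 ∧
      twV tw3 i 3 = 2 * i.val + 3) := by
  decide +kernel

theorem tw_bound : ∀ t ∈ [tw0, tw1, tw2, tw3],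
    (t.all fun w => w.all fun j => Nat.blt j CData.gens9.length) = true := by
  decide +kernel

theorem card_image :
    1512 ≤ Nat.card ↥(closure (imW '' {w | w ∈ CData.img.map fun t => t.2.1})) := by
  set H := closure (imW '' {w | w ∈ CData.img.map fun t => t.2.1}) with hH
  have hg : ∀ j, ∃ p ∈ H, Vals p (CData.gens9.getD j []) ∨ CData.gens9.length ≤ j := by
    intro j
    by_cases hj : j < CData.gens9.length
    · have hj' : j < CData.img.length := by rw [← gens_ok.1] at hj; simpa using hj
      refine ⟨imW (CData.img[j]).2.1, subset_closure ⟨_, List.mem_map.2 ⟨_, List.getElem_mem hj', rfl⟩, rfl⟩,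
        Or.inl ?_⟩
      rw [List.getD_eq_getElem _ _ hj, List.getElem_of_eq gens_ok.1.symm hj, List.getElem_map]
      refine (vals_word _ fun i hi => ?_).1
      have := List.all_eq_true.1 (List.all_eq_true.1 gens_ok.2 _ (List.getElem_mem hj')) i hi
      simpa [Nat.blt_eq] using this
    · exact ⟨1, one_mem _, Or.inr (not_lt.1 hj)⟩
  have hlen : (CData.gens9.all fun l => Nat.beq l.length 9) = true := by decide +kernel
  have key : ∀ w : List ℕ, (∀ j ∈ w, j < CData.gens9.length) →
      ∃ p ∈ H, Vals p (nineGenL w) ∧ (nineGenL w).length = 9 := by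
    intro w
    induction w with
    | nil => intro _; exact ⟨1, one_mem _, vals_one, rfl⟩
    | cons j w ih =>
      intro h
      obtain ⟨p, hp, hv, hl⟩ := ih fun i hi => h i (List.mem_cons_of_mem _ hi)
      have hj := h j List.mem_cons_self
      obtain ⟨q, hq, hqv⟩ := hg j
      exact ⟨q * p, mul_mem hq hp, (hqv.resolve_right (not_le.2 hj)).mul hv hl,
        by show (compL _ (nineGenL w)).length = 9; simp [compL, hl]⟩
  have pick : ∀ t ∈ [tw0, tw1, tw2, tw3], ∀ i : ℕ, ∃ p : H, ∀ x : Fin 9,
      twV t i x.val = ((p : Perm (Fin 9)) x).val := by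
    intro t ht i
    obtain ⟨p, hp, hv, -⟩ := key (t.getD i []) fun j hj => by
      by_cases hi : i < t.length
      · rw [List.getD_eq_getElem _ _ hi] at hj
        have := List.all_eq_true.1 (List.all_eq_true.1 (tw_bound t ht) _ (List.getElem_mem hi)) j hj
        simpa [Nat.blt_eq] using this
      · rw [List.getD_eq_default _ _ (not_lt.1 hi)] at hj; simp at hj
    exact ⟨⟨p, hp⟩, hv⟩
  choose a ha using pick tw0 (by simp)
  choose b hb using pick tw1 (by simp)
  choose c hc using pick tw2 (by simp)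
  choose d hd using pick tw3 (by simp)
  obtain ⟨o0, o1, o2, o3⟩ := tw_ok
  let f : Fin 9 × Fin 8 × Fin 7 × Fin 3 → H := fun x => a x.1 * b x.2.1 * c x.2.2.1 * d x.2.2.2
  haveI : Finite H := inferInstance
  have hb0 : ∀ i : Fin 8, (b i : Perm (Fin 9)) 0 = 0 := fun i =>
    Fin.ext ((hb i 0).symm.trans (o1 i).1)
  have hc0 : ∀ i : Fin 7, (c i : Perm (Fin 9)) 0 = 0 := fun i =>
    Fin.ext ((hc i 0).symm.trans (o2 i).1)
  have hd0 : ∀ i : Fin 3, (d i : Perm (Fin 9)) 0 = 0 := fun i =>
    Fin.ext ((hd i 0).symm.trans (o3 i).1)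
  have hc1 : ∀ i : Fin 7, (c i : Perm (Fin 9)) 1 = 1 := fun i =>
    Fin.ext ((hc i 1).symm.trans (o2 i).2.1)
  have hd1 : ∀ i : Fin 3, (d i : Perm (Fin 9)) 1 = 1 := fun i =>
    Fin.ext ((hd i 1).symm.trans (o3 i).2.1)
  have hd2 : ∀ i : Fin 3, (d i : Perm (Fin 9)) 2 = 2 := fun i =>
    Fin.ext ((hd i 2).symm.trans (o3 i).2.2.1)
  have hf : Function.Injective f := by
    rintro ⟨i, j, k, l⟩ ⟨i', j', k', l'⟩ h
    have h' : (a i : Perm (Fin 9)) * b j * c k * d l = a i' * b j' * c k' * d l' :=
      congrArg Subtype.val h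
    have e0 := DFunLike.congr_fun h' 0
    simp only [Perm.mul_apply, hb0, hc0, hd0] at e0
    obtain rfl : i = i' := Fin.ext <| by
      rw [← o0 i, ← o0 i']; exact (ha i 0).trans ((congrArg Fin.val e0).trans (ha i' 0).symm)
    rw [mul_assoc, mul_assoc, mul_assoc, mul_assoc, mul_right_inj] at h'
    have e1 := DFunLike.congr_fun h' 1
    simp only [Perm.mul_apply, hc1, hd1] at e1
    obtain rfl : j = j' := Fin.ext <| Nat.succ_injective <| by
      exact (o1 j).2.symm.trans ((hb j 1).trans ((congrArg Fin.val e1).trans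
        ((hb j' 1).symm.trans (o1 j').2)))
    rw [mul_right_inj] at h'
    have e2 := DFunLike.congr_fun h' 2
    simp only [Perm.mul_apply, hd2] at e2
    obtain rfl : k = k' := by
      have := (o2 k).2.2.symm.trans ((hc k 2).trans ((congrArg Fin.val e2).trans
        ((hc k' 2).symm.trans (o2 k').2.2)))
      exact Fin.ext (by omega)
    rw [mul_right_inj] at h'
    have e3 := DFunLike.congr_fun h' 3
    obtain rfl : l = l' := by
      have := (o3 l).2.2.2.symm.trans ((hd l 3).trans ((congrArg Fin.val e3).trans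
        ((hd l' 3).symm.trans (o3 l').2.2.2)))
      exact Fin.ext (by omega)
    rfl
  calc 1512 = Nat.card (Fin 9 × Fin 8 × Fin 7 × Fin 3) := by
        simp
    _ ≤ Nat.card H := Nat.card_le_card_of_injective f hf

end H42.ThCent
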