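import Cfsg.Agent.H42.ThCent.ChecksA
import Cfsg.Agent.H42.ThCent.ChecksB
import Cfsg.Agent.H42.ThCent.ChecksC
import Cfsg.Agent.H42.ThCent.Core
import Cfsg.Agent.H42.ThCent.Nine

/-!
The frame and the lifts in the presented Thompson group, and how much of the centraliser of `a`
lies in the subgroup generated by a, …, t.
-/

set_option autoImplicit false
set_option maxRecDepth 100000
set_option maxHeartbeats 1000000

open Cfsg Subgroup H42.Tri

namespace H42.ThCent

attribute [local irreducible] mulT plusP minusP matT

/-- The involution. -/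
def zG : T := lt 0

/-- The frame. -/
def qG (j : Fin 8) : T := evG (CData.qW.getD j.val [])

/-- The lifts. -/
def vG (i : ℕ) : T := evG (CData.vW.getD i [])

/-- The product selected by `m`. -/
def nfG (m : ℕ) : T :=
  List.foldr (fun j acc => if m.testBit j then evG (CData.qW.getD j []) * acc else acc)
    (if m.testBit 8 then zG else 1) [0, 1, 2, 3, 4, 5, 6, 7]

/-- The subgroup generated by a, b, c, d, e, s, t. -/
abbrev nT : Subgroup T := H96.ThSimple.nTh

theorem lt_mem {i : ℕ} (hi : i < 7 ∨ i = 8 ∨ i = 9) : lt i ∈ nT := by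
  have hsub : ∀ g : Cfsg.Spor.Th.Gen, g ≠ .u → H96.ThSimple.gen g ∈ nT := by
    intro g hg
    rw [show nT = _ from H96.ThSimple.nTh_eq]
    refine subset_closure ?_
    cases g <;> simp_all
  rcases hi with h | rfl | rfl
  · rw [lt, if_pos (by omega)]
    interval_cases i <;> exact hsub _ (by simp [gn])
  · rw [lt, if_neg (by norm_num), if_pos rfl]
    exact pow_mem (hsub _ (by simp)) 6
  · rw [lt, if_neg (by norm_num), if_neg (by norm_num), if_pos rfl]
    exact pow_mem (hsub _ (by simp)) 2

theorem evG_mem : ∀ w : List ℕ, (w.all fun i => Nat.blt i 7 || i == 8 || i == 9) = true →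
    evG w ∈ nT := by
  intro w
  induction w with
  | nil => intro _; exact one_mem _
  | cons i w ih =>
    intro h
    simp only [List.all_cons, Bool.and_eq_true, Bool.or_eq_true, Nat.blt_eq, beq_iff_eq] at h
    rw [evG_cons]
    exact mul_mem (lt_mem (by tauto)) (ih h.2)

variable (M : Model)

theorem is_z : Is (M.rho zG) (letC 0) := is_lt M 0

theorem is_q (j : Fin 8) : Is (M.rho (qG j)) (qC j.val) := by
  have h : evC (CData.qW.getD j.val []) = qC j.val := by
    fin_cases j
    exacts [qW0, qW1, qW2, qW3, qW4, qW5, qW6, qW7]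
  exact h ▸ is_ev M _

theorem is_v {i : ℕ} (hi : i < 7) : Is (M.rho (vG i)) (vC i) := by
  have h : evC (CData.vW.getD i []) = vC i := by
    interval_cases i
    exacts [vW0, vW1, vW2, vW3, vW4, vW5, vW6]
  exact h ▸ is_ev M _

theorem is_nf (m : ℕ) : Is (M.rho (nfG m)) (nfC m) := by
  have key : ∀ l : List ℕ, (∀ j ∈ l, j < 8) →
      Is (M.rho (List.foldr (fun j acc => if m.testBit j then evG (CData.qW.getD j []) * acc else acc)
        (if m.testBit 8 then zG else 1) l))
      (List.rec (motive := fun _ => ℕ) (bif m.testBit 8 then letC 0 else LetData.cI)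
        (fun j _ ih => bif m.testBit j then mulC (qC j) ih else ih) l) := by
    intro l
    induction l with
    | nil =>
      intro _
      show Is (M.rho (if m.testBit 8 then zG else 1)) (bif m.testBit 8 then letC 0 else LetData.cI)
      cases m.testBit 8
      · simp only [Bool.false_eq_true, if_false, map_one, cond_false]; exact is_one
      · simp only [if_true, cond_true]; exact is_z M
    | cons j l ih =>
      intro hl
      have ih' := ih fun k hk => hl k (List.mem_cons_of_mem _ hk)
      rw [List.foldr_cons]
      cases hb : m.testBit j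
      · simp only [hb, Bool.false_eq_true, if_false, cond_false]; exact ih'
      · simp only [hb, if_true, cond_true, map_mul]
        exact (is_q M ⟨j, hl j List.mem_cons_self⟩).mul ih'
  exact key _ (by decide)

/-- Equal codes give equal elements. -/
theorem eqB {g h : T} {c d : ℕ} (hg : Is (M.rho g) c) (hh : Is (M.rho h) d)
    (e : Nat.beq c d = true) : g = h := eq_of_is M hg (Nat.eq_of_beq_eq_true e ▸ hh)

theorem frame (M : Model) : Frame zG qG := by
  obtain ⟨h8, hzz, -⟩ := frame_sq
  have hq := fun j : Fin 8 => List.all_eq_true.1 h8 j.val (List.mem_range.2 j.isLt)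
  refine ⟨?_, ?_, fun j => ?_, fun j => ?_, fun i j hlt hne => ?_, fun i j hi hj => ?_⟩
  · exact eqB M (h := 1) (by rw [map_mul]; exact (is_z M).mul (is_z M))
      (by rw [map_one]; exact is_one) hzz
  · exact ne_of_entry M (is_z M) (h := 1) (by rw [map_one]; exact is_one) (i := CData.entA.1)
      (k := CData.entA.2) (by decide +kernel) (by decide +kernel) a_ne
  · have h := (Bool.and_eq_true_iff.1 (hq j)).2
    exact eqB M (by rw [map_mul]; exact (is_z M).mul (is_q M j))
      (by rw [map_mul]; exact (is_q M j).mul (is_z M)) h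
  · have h := (Bool.and_eq_true_iff.1 (hq j)).1
    have e := eqB M (by rw [map_mul]; exact (is_q M j).mul (is_q M j)) (is_nf M _) h
    have hs : ∀ j : Fin 8, CData.sqN.getD j.val 0 = 0 ∨ CData.sqN.getD j.val 0 = 256 := by
      decide +kernel
    rcases hs j with h0 | h0 <;> rw [e, h0]
    · left; simp [nfG]
    · right; simp [nfG, show (256 : ℕ).testBit 8 = true from rfl,
        show ∀ k < 8, (256 : ℕ).testBit k = false by decide]
  · have h := List.all_eq_true.1 (List.all_eq_true.1 frame_com i.val (List.mem_range.2 i.isLt)) j.val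
      (List.mem_range.2 j.isLt)
    have h1 : Nat.blt i.val j.val = true := by rw [Nat.blt_eq]; exact hlt
    have h2 : Nat.beq j.val (i.val + 4) = false :=
      Bool.eq_false_iff.2 fun e => hne (Nat.eq_of_beq_eq_true e)
    simp only [h1, h2, Bool.not_true, Bool.false_or] at h
    exact eqB M (by rw [map_mul]; exact (is_q M i).mul (is_q M j))
      (by rw [map_mul]; exact (is_q M j).mul (is_q M i)) h
  · have h := List.all_eq_true.1 frame_pair i.val (List.mem_range.2 hi)
    rw [← hj] at h
    exact eqB M (by rw [map_mul]; exact (is_q M i).mul (is_q M j))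
      (by rw [map_mul, map_mul]; exact (is_z M).mul ((is_q M j).mul (is_q M i))) h

theorem nf_mem (m : ℕ) : nfG m ∈ (frame M).span := by
  have hz : zG ∈ (frame M).span := subset_closure (Set.mem_insert _ _)
  have key : ∀ l : List ℕ, (∀ j ∈ l, j < 8) →
      List.foldr (fun j acc => if m.testBit j then evG (CData.qW.getD j []) * acc else acc)
        (if m.testBit 8 then zG else 1) l ∈ (frame M).span := by
    intro l
    induction l with
    | nil =>
      intro _
      simp only [List.foldr_nil]
      split_ifs
      · exact hz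
      · exact one_mem _
    | cons j l ih =>
      intro hl
      have ih' := ih fun k hk => hl k (List.mem_cons_of_mem _ hk)
      rw [List.foldr_cons]
      by_cases hb : m.testBit j = true
      · rw [if_pos hb]; exact mul_mem (subset_closure (Set.mem_insert_of_mem _ ⟨⟨j, hl j List.mem_cons_self⟩, rfl⟩)) ih'
      · rw [if_neg hb]; exact ih'
  exact key _ (by decide)

/-- Words in the lifts have the product codes. -/
theorem is_vw : ∀ w : List ℕ, (∀ i ∈ w, i < 7) → Is (M.rho (vW vG w)) (vwC w) := by
  intro w
  induction w with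
  | nil => intro _; rw [vW, List.map_nil, List.prod_nil, map_one]; exact is_one
  | cons i w ih =>
    intro h
    show Is (M.rho (vW vG (i :: w))) (mulC (vC i) (vwC w))
    rw [show vW vG (i :: w) = vG i * vW vG w from rfl, map_mul]
    exact (is_v M (h i List.mem_cons_self)).mul (ih fun j hj => h j (List.mem_cons_of_mem _ hj))

theorem lifts [Finite T] (M : Model) : Lifts (frame M) vG := by
  have hv0 : ∀ n, Is (M.rho (vG 0 ^ 2 ^ n))
      (Nat.rec (motive := fun _ => ℕ) (vC 0) (fun _ ih => fz ih fun c => mulC c c) n) := by
    intro n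
    induction n with
    | zero => simpa using is_v M (i := 0) (by norm_num)
    | succ n ih =>
      show Is _ (fz _ fun c => mulC c c)
      rw [fz_eq, pow_succ, pow_mul, pow_two, map_mul]
      exact ih.mul ih
  refine ⟨fun i hi => ?_, fun i hi j => ?_, ?_, fun i h1 h2 => ?_, fun i hi => ?_,
    fun i j h1 h2 => ?_, fun hmem => ?_⟩
  · exact eqB M (by rw [map_mul]; exact (is_v M hi).mul (is_z M))
      (by rw [map_mul]; exact (is_z M).mul (is_v M hi))
      (List.all_eq_true.1 frame_sq.2.2 i (List.mem_range.2 hi))
  · have h : Nat.beq (mulC (vC i) (qC j.val))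
        (mulC (nfC ((CData.conjV.getD i []).getD j.val 0)) (vC i)) = true := by
      have key : ∀ (a b : Bool), (a = true) → (b = true) → a = true ∧ b = true := fun _ _ x y => ⟨x, y⟩
      have hmem : j.val ∈ [0, 1, 2, 3] ∨ j.val ∈ [4, 5, 6, 7] := by fin_cases j <;> simp
      rcases hmem with hm | hm
      · have hh : (([0, 1, 2, 3] : List ℕ).all fun j => Nat.beq (mulC (vC i) (qC j))
            (mulC (nfC ((CData.conjV.getD i []).getD j 0)) (vC i))) = true := by
          interval_cases i
          exacts [conj0a, conj1a, conj2a, conj3a, conj4a, conj5a, conj6a]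
        exact List.all_eq_true.1 hh j.val hm
      · have hh : (([4, 5, 6, 7] : List ℕ).all fun j => Nat.beq (mulC (vC i) (qC j))
            (mulC (nfC ((CData.conjV.getD i []).getD j 0)) (vC i))) = true := by
          interval_cases i
          exacts [conj0b, conj1b, conj2b, conj3b, conj4b, conj5b, conj6b]
        exact List.all_eq_true.1 hh j.val hm
    have e := eqB M (by rw [map_mul]; exact (is_v M hi).mul (is_q M j))
      (by rw [map_mul]; exact (is_nf M _).mul (is_v M hi)) h
    rw [e, mul_inv_cancel_right]
    exact nf_mem M _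
  · have e := eqB M (g := vG 0 ^ 3)
      (by rw [pow_succ', pow_two, map_mul, map_mul]
          exact (is_v M (by norm_num)).mul ((is_v M (by norm_num)).mul (is_v M (by norm_num))))
      (is_nf M _) rel_cube
    rw [e]; exact nf_mem M _
  · obtain ⟨k, rfl⟩ : ∃ k, i = k + 1 := ⟨i - 1, by omega⟩
    have e := eqB M (g := vG (k + 1) ^ 2) (by rw [pow_two, map_mul]; exact (is_v M h2).mul (is_v M h2)) (is_nf M _)
      (List.all_eq_true.1 rel_sq k (List.mem_range.2 (by omega)))
    rw [e]; exact nf_mem M _
  · have h : Nat.beq (vwC [i, i + 1, i, i + 1, i, i + 1]) (nfC (CData.braidV.getD i 0)) = true := by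
      have hm : i ∈ [0, 1, 2] ∨ i ∈ [3, 4, 5] := by
        simp only [List.mem_cons, List.not_mem_nil, or_false]; omega
      rcases hm with hm | hm
      · exact List.all_eq_true.1 rel_braid0 i hm
      · exact List.all_eq_true.1 rel_braid1 i hm
    have e := eqB M (is_vw M [i, i + 1, i, i + 1, i, i + 1] (by simp; omega)) (is_nf M _) h
    rw [show (vG i * vG (i + 1)) ^ 3 = vW vG [i, i + 1, i, i + 1, i, i + 1] by
      simp only [vW, List.map_cons, List.map_nil, List.prod_cons, List.prod_nil, mul_one,
        pow_succ, pow_zero, one_mul, mul_assoc], e]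
    exact nf_mem M _
  · obtain ⟨c, hc⟩ : ∃ c, (i, j, c) ∈ CData.farV := by
      have : ∀ j < 7, ∀ i < j, i + 1 < j →
          (CData.farV.any fun t => Nat.beq t.1 i && Nat.beq t.2.1 j) = true := by decide +kernel
      obtain ⟨t, ht, hb⟩ := List.any_eq_true.1 (this j h2 i (by omega) h1)
      simp only [Bool.and_eq_true, Nat.beq_eq] at hb
      exact ⟨t.2.2, by rw [← hb.1, ← hb.2]; exact ht⟩
    have hsplit : CData.farV = (CData.farV.drop (5 * 0)).take 5 ++
        ((CData.farV.drop (5 * 1)).take 5 ++ (CData.farV.drop (5 * 2)).take 5) := by decide +kernel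
    rw [hsplit, List.mem_append, List.mem_append] at hc
    have h : Nat.beq (vwC [i, j, i, j]) (nfC c) = true := by
      rcases hc with hc | hc | hc
      · exact List.all_eq_true.1 rel_far0 (i, j, c) hc
      · exact List.all_eq_true.1 rel_far1 (i, j, c) hc
      · exact List.all_eq_true.1 rel_far2 (i, j, c) hc
    have e := eqB M (is_vw M [i, j, i, j] (by simp; omega)) (is_nf M _) h
    rw [show (vG i * vG j) ^ 2 = vW vG [i, j, i, j] by
      simp only [vW, List.map_cons, List.map_nil, List.prod_cons, List.prod_nil, mul_one,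
        pow_two, mul_assoc], e]
    exact nf_mem M _
  · refine ne_of_entry M (hv0 9) (h := 1) (by rw [map_one]; exact is_one) (i := CData.entV.1)
      (k := CData.entV.2) (by decide +kernel) (by decide +kernel) v0pow_ne ?_
    have hQ := (frame M).extraspecial.2
    have := pow_card_eq_one' (G := ↥(frame M).span) (x := ⟨vG 0, hmem⟩)
    rw [hQ] at this
    exact congrArg Subtype.val this

theorem span_le_N : (frame M).span ≤ nT := by
  rw [Frame.span, closure_le]
  rintro w (hw | ⟨j, rfl⟩)
  · subst hw; exact lt_mem (Or.inl (by norm_num))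
  · refine evG_mem _ ?_
    revert j
    decide +kernel

/-- The centraliser of the involution meets the subgroup in at least 774144 elements. -/
theorem card_meet_N [Finite T] (M : Model) :
    774144 ≤ Nat.card ↥(centralizer ({zG} : Set T) ⊓ nT) := by
  refine le_trans ?_ (card_meet (lifts M) nT (span_le_N M) (CData.img.map fun t => t.2.1) ?_ ?_)
  · exact le_trans (by norm_num) (Nat.mul_le_mul_left 512 card_image)
  · intro w hw i hi
    obtain ⟨t, ht, rfl⟩ := List.mem_map.1 hw
    simpa [Nat.blt_eq] using List.all_eq_true.1 (List.all_eq_true.1 gens_ok.2 t ht) i hi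
  · intro w hw
    obtain ⟨t, ht, rfl⟩ := List.mem_map.1 hw
    refine ⟨nfG t.2.2, nf_mem M _, ?_⟩
    have hl : ∀ i ∈ t.2.1, i < 7 := fun i hi => by
      simpa [Nat.blt_eq] using List.all_eq_true.1 (List.all_eq_true.1 gens_ok.2 t ht) i hi
    have hsplit : CData.img = (CData.img.drop (2 * 0)).take 2 ++
        ((CData.img.drop (2 * 1)).take 2 ++ (CData.img.drop (2 * 2)).take 2) := by decide +kernel
    have h : Nat.beq (mulC (vwC t.2.1) (nfC t.2.2)) (letC t.1) = true := by
      have ht' := ht
      rw [hsplit, List.mem_append, List.mem_append] at ht'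
      rcases ht' with hc | hc | hc
      · exact List.all_eq_true.1 img0 t hc
      · exact List.all_eq_true.1 img1 t hc
      · exact List.all_eq_true.1 img2 t hc
    rw [eqB M (g := vW vG t.2.1 * nfG t.2.2) (h := lt t.1) (by rw [map_mul]; exact (is_vw M _ hl).mul (is_nf M _)) (is_lt M _) h]
    refine lt_mem (Or.inl ?_)
    have : (CData.img.all fun t => Nat.blt t.1 7) = true := by decide +kernel
    simpa [Nat.blt_eq] using List.all_eq_true.1 this t ht

end H42.ThCent
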