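import Cfsg.Agent.H42.ThCent.KCheck
import Cfsg.Agent.H42.ThCent.Struct
import Cfsg.Agent.H42.ThCent.KColsA
import Cfsg.Agent.H42.ThCent.KColsB
import Cfsg.Agent.H42.ThCent.KRunA
import Cfsg.Agent.H42.ThCent.KRunB
import Cfsg.Agent.H42.ThCent.KRunC
import Cfsg.Agent.H42.ThCent.KSegs

/-!
What the programs on segments and keys say about members of the class of the involution.
-/

set_option autoImplicit false
set_option maxRecDepth 100000

open Cfsg H42.Tri

namespace H42.ThCent

attribute [local irreducible] mulT plusP minusP matT mulC letC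

/-- The planes are disjoint. -/
def Sep (c : ℕ) : Prop := plusP 248 c &&& minusP 248 c = 0

/-- The row vectors. -/
noncomputable def mX : Mat := matT 248 KData.xC

/-- The column vectors. -/
noncomputable def mY : Mat := matT 248 KData.yC

theorem sep_data : (Nat.beq (Nat.land (plusP 248 KData.aC) (minusP 248 KData.aC)) 0 &&
    Nat.beq (Nat.land (plusP 248 KData.fC) (minusP 248 KData.fC)) 0 &&
    Nat.beq (Nat.land (plusP 248 KData.xC) (minusP 248 KData.xC)) 0 &&
    Nat.beq (Nat.land (plusP 248 KData.yC) (minusP 248 KData.yC)) 0) = true := by decide +kernel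

theorem sep_a : Sep KData.aC ∧ Sep KData.fC ∧ Sep KData.xC ∧ Sep KData.yC := by
  have h := sep_data
  simp only [Bool.and_eq_true, Nat.beq_eq] at h
  exact ⟨h.1.1.1, h.1.1.2, h.1.2, h.2⟩

theorem sep_mul {a : ℕ} (ha : Sep a) (b : ℕ) :
    Sep (mulC a b) ∧ matT 248 (mulC a b) = matT 248 a * matT 248 b := by
  obtain ⟨h1, -, h3⟩ := mulT_spec (m := 248) (by norm_num) ones_eq b ha
  rw [Sep, mulC]
  exact ⟨h1.2.2, h3⟩

/-- A segment. -/
def segG (j : ℕ) : T := evG (KData.segW.getD (min j 21) [])

/-- The product of segments. -/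
def pathG (p : List ℕ) : T := (p.map segG).prod

/-- The member of the class at the end of a path. -/
def memG (p : List ℕ) : T := (pathG p)⁻¹ * zG * pathG p

theorem seg_all : ∀ j ≤ 21, segOK j = true := by
  intro j hj
  interval_cases j
  exacts [seg0, seg1, seg2, seg3, seg4, seg5, seg6, seg7, seg8, seg9, seg10, seg11, seg12, seg13,
    seg14, seg15, seg16, seg17, seg18, seg19, seg20, seg21]

theorem segG_mem (j : ℕ) : segG j ∈ nT := by
  have h : (KData.segW.all fun w => w.all fun i => Nat.blt i 7 || i == 8 || i == 9) = true := by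
    decide +kernel
  refine evG_mem _ ?_
  rw [List.getD_eq_getElem?_getD]
  cases e : KData.segW[min j 21]? with
  | none => rfl
  | some w => exact List.all_eq_true.1 h w (List.mem_of_getElem? e)

theorem pathG_mem (p : List ℕ) : pathG p ∈ nT := by
  refine Subgroup.list_prod_mem _ fun x hx => ?_
  obtain ⟨j, -, rfl⟩ := List.mem_map.1 hx
  exact segG_mem j

theorem code_clamp (j : ℕ) : sC j = sC (min j 21) ∧ rC j = rC (min j 21) := by
  by_cases h : j ≤ 21
  · rw [min_eq_left h]; exact ⟨rfl, rfl⟩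
  · obtain ⟨k, rfl⟩ : ∃ k, j = k + 21 := ⟨j - 21, by omega⟩
    rw [min_eq_right (by omega)]
    exact ⟨rfl, rfl⟩

variable (M : Model)

theorem is_seg (j : ℕ) : Sep (sC j) ∧ Sep (rC j) ∧ matT 248 (sC j) = (M.rho (segG j)).val ∧
    matT 248 (rC j) = ((M.rho (segG j))⁻¹ : Matˣ).val := by
  obtain ⟨e1, e2⟩ := code_clamp j
  rw [e1, e2, segG]
  have h := seg_all (min j 21) (min_le_right _ _)
  simp only [segOK, Bool.and_eq_true, Nat.beq_eq] at h
  obtain ⟨⟨hs, hinv⟩, hr⟩ := h
  have hI := is_ev M (KData.segW.getD (min j 21) [])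
  rw [hs] at hI
  refine ⟨hI.1, hr, hI.2.symm, ?_⟩
  refine Units.eq_inv_of_mul_eq_one_right ?_
  rw [hI.2, ← (sep_mul hr _).2, hinv, matT_cI]

/-- The states after the product `W`. -/
def Around (A B : ℕ) (W : T) : Prop :=
  Sep A ∧ matT 248 A = mX * ((M.rho W)⁻¹ : Matˣ).val ∧ matT 248 B = (M.rho W).val * mY

theorem around_start : Around M KData.xC KData.yC 1 := by
  refine ⟨sep_a.2.2.1, ?_, ?_⟩ <;> simp [mX, mY]

theorem around_step {A B : ℕ} {W : T} (h : Around M A B W) (s : ℕ) :
    Around M (mulC A (rC s)) (mulC (sC s) B) (segG s * W) := by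
  obtain ⟨hA, hA', hB'⟩ := h
  obtain ⟨hs, -, hs', hr'⟩ := is_seg M s
  refine ⟨(sep_mul hA _).1, ?_, ?_⟩
  · rw [(sep_mul hA _).2, hA', hr', map_mul, mul_inv_rev, Units.val_mul, Matrix.mul_assoc]
  · rw [(sep_mul hs _).2, hB', hs', map_mul, Units.val_mul, Matrix.mul_assoc]

theorem stateK_spec : ∀ (p : List ℕ) (K : ℕ → ℕ → Bool) (A B : ℕ), Around M A B 1 →
    stateK p K A B = true → ∃ A' B', Around M A' B' (pathG p) ∧ K A' B' = true := by
  intro p
  induction p with
  | nil => intro K A B h hK; exact ⟨A, B, h, hK⟩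
  | cons s p ih =>
    intro K A B h hK
    obtain ⟨A', B', h', hK'⟩ := ih (fun A' B' =>
      fz (mulC A' (rC s)) fun A2 => fz (mulC (sC s) B') fun B2 => K A2 B2) A B h hK
    simp only [fz_eq] at hK'
    exact ⟨_, _, around_step M h' s, hK'⟩

/-- The code `c` shows the matrix of `g` between the vectors. -/
def Shows (c : ℕ) (g : T) : Prop := Sep c ∧ matT 248 c = mX * (M.rho g).val * mY

/-- What the test at a leaf says about member `i`. -/
def Member (i : ℕ) (p : List ℕ) : Prop := ∃ c, Shows M c (memG p) ∧ leaf i c = true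

theorem member_root : Member M KData.root [] := by
  have h := root_ok
  simp only [atNode, fz_eq] at h
  refine ⟨_, ⟨(sep_mul (sep_mul sep_a.2.2.1 _).1 _).1, ?_⟩, h⟩
  rw [(sep_mul (sep_mul sep_a.2.2.1 _).1 _).2, (sep_mul sep_a.2.2.1 _).2, memG, pathG,
    List.map_nil, List.prod_nil, inv_one, one_mul, mul_one, (is_z M).2, mX, mY]

theorem member_child {c : List ℕ × List (ℕ × ℕ)} (h : chunkOK c = true) {t : ℕ × ℕ} (ht : t ∈ c.2) :
    Member M t.2 (t.1 :: c.1) := by
  obtain ⟨A, B, hAB, hK⟩ := stateK_spec M c.1 _ _ _ (around_start M) h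
  have hl := List.all_eq_true.1 hK t ht
  simp only [atChild, fz_eq] at hl
  obtain ⟨hA, hA', hB'⟩ := hAB
  obtain ⟨-, -, hs', hr'⟩ := is_seg M t.1
  refine ⟨_, ⟨(sep_mul (sep_mul (sep_mul (sep_mul hA _).1 _).1 _).1 _).1, ?_⟩, hl⟩
  rw [(sep_mul (sep_mul (sep_mul (sep_mul hA _).1 _).1 _).1 _).2,
    (sep_mul (sep_mul (sep_mul hA _).1 _).1 _).2, (sep_mul (sep_mul hA _).1 _).2, (sep_mul hA _).2,
    hA', hB', hr', hs', ← (is_z M).2, memG]
  simp only [pathG, List.map_cons, List.prod_cons, mul_inv_rev, map_mul, map_inv, Units.val_mul,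
    Matrix.mul_assoc]

/-- The slices. -/
def runs : List (ℕ × ℕ) := [
  (0, 2), (2, 2), (4, 2), (6, 2), (8, 2), (10, 2), (12, 2), (14, 3), (17, 3), (20, 2), (22, 3),
  (25, 4), (29, 3), (32, 3), (35, 3), (38, 3), (41, 3), (44, 4), (48, 3), (51, 2), (53, 4), (57, 3),
  (60, 6), (66, 4), (70, 4), (74, 7), (81, 8), (89, 7), (96, 11), (107, 10), (117, 14), (131, 23)]

theorem runs_ok : ∀ r ∈ runs, runOK r.1 r.2 = true := by
  simp only [runs, List.mem_cons, List.not_mem_nil, or_false, forall_eq_or_imp, forall_eq]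
  exact ⟨run0, run1, run2, run3, run4, run5, run6, run7, run8, run9, run10, run11, run12, run13, run14, run15, run16, run17, run18, run19, run20, run21, run22, run23, run24, run25, run26, run27, run28, run29, run30, run31⟩

theorem covered : ((List.range 819).all fun i => Nat.beq KData.root i ||
    runs.any fun r => ((KData.chunks.drop r.1).take r.2).any fun c =>
      c.2.any fun t => Nat.beq t.2 i) = true := by decide +kernel

theorem exists_member {i : ℕ} (hi : i < 819) : ∃ p, Member M i p := by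
  have h := List.all_eq_true.1 covered i (List.mem_range.2 hi)
  rw [Bool.or_eq_true, Nat.beq_eq, List.any_eq_true] at h
  rcases h with rfl | ⟨r, hr, h⟩
  · exact ⟨[], member_root M⟩
  · obtain ⟨c, hc, h⟩ := List.any_eq_true.1 h
    obtain ⟨t, ht, h⟩ := List.any_eq_true.1 h
    rw [Nat.beq_eq] at h
    subst h
    exact ⟨_, member_child M (List.all_eq_true.1 (runs_ok r hr) c hc) ht⟩

/-- The key of the code in block `k`. -/
noncomputable def keyP (c k : ℕ) : ℕ := keyC (plusP 248 c) (minusP 248 c) k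

theorem leaf_key {i c : ℕ} (h : leaf i c = true) : keyP c 0 = KData.keys.getD i 0 := by
  simp only [leaf, fz_eq, Bool.and_eq_true, Nat.beq_eq] at h
  exact h.1

theorem leaf_keep {i c k : ℕ} (h : leaf i c = true) (h1 : 1 ≤ k) (h2 : k ≤ 10) :
    i ∈ KData.keep.getD k [] ∨ maybeKey (keyP c k) = false := by
  simp only [leaf, fz_eq, Bool.and_eq_true] at h
  have h3 := List.all_eq_true.1 h.2 k (by simp; omega)
  rw [Bool.or_eq_true, List.any_eq_true] at h3
  rcases h3 with ⟨j, hj, e⟩ | e
  · exact Or.inl ((Nat.eq_of_beq_eq_true e) ▸ hj)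
  · exact Or.inr (by simpa [keyP] using e)

theorem nib_congr {P P' k m : ℕ}
    (h : ∀ b < 4, P.testBit (248 * (4 * k + m) + (4 * k + b)) = P'.testBit (248 * m + b)) :
    nib P k m = nib P' 0 m := by
  apply Nat.eq_of_testBit_eq
  intro b
  simp only [nib, show (16 : ℕ) = 2 ^ 4 from rfl, Nat.testBit_mod_two_pow, Nat.testBit_shiftRight]
  by_cases hb : b < 4
  · simp only [hb, decide_true, Bool.true_and]
    rw [Nat.add_assoc, h b hb]
    ring_nf
  · simp [hb]

/-- Equal blocks give equal keys. -/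
theorem key_congr {c d k : ℕ} (hc : Sep c) (hd : Sep d) (hk : k ≤ 10)
    (h : ∀ a b : Fin 4, matT 248 c ⟨4 * k + a, by omega⟩ ⟨4 * k + b, by omega⟩ =
      matT 248 d ⟨a, by omega⟩ ⟨b, by omega⟩) : keyP c k = keyP d 0 := by
  have key : ∀ m < 4, ∀ b < 4,
      (plusP 248 c).testBit (248 * (4 * k + m) + (4 * k + b)) = (plusP 248 d).testBit (248 * m + b) ∧
      (minusP 248 c).testBit (248 * (4 * k + m) + (4 * k + b)) =
        (minusP 248 d).testBit (248 * m + b) := by
    intro m hm b hb
    have e := h ⟨m, hm⟩ ⟨b, hb⟩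
    rw [matT, matT] at e
    have dc := dj_bit hc (248 * (4 * k + m) + (4 * k + b))
    have dd := dj_bit hd (248 * m + b)
    revert e dc dd
    simp only [val2, H26.BitCode.cbit]
    cases (plusP 248 c).testBit (248 * (4 * k + m) + (4 * k + b)) <;>
      cases (minusP 248 c).testBit (248 * (4 * k + m) + (4 * k + b)) <;>
      cases (plusP 248 d).testBit (248 * m + b) <;> cases (minusP 248 d).testBit (248 * m + b) <;>
      decide
  have row : ∀ m < 4, rowKey (plusP 248 c) (minusP 248 c) k m =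
      rowKey (plusP 248 d) (minusP 248 d) 0 m := fun m hm => by
    rw [rowKey, rowKey, nib_congr fun b hb => (key m hm b hb).1,
      nib_congr fun b hb => (key m hm b hb).2]
  simp only [keyP, keyC, row 0 (by norm_num), row 1 (by norm_num), row 2 (by norm_num),
    row 3 (by norm_num)]

theorem rows_code : ∀ (w : List ℕ) (c : ℕ), Sep c →
    Sep (w.foldl (fun c i => mulC c (letC i)) c) ∧
      matT 248 (w.foldl (fun c i => mulC c (letC i)) c) =
        matT 248 c * (M.rho (evG w)).val := by
  intro w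
  induction w with
  | nil => intro c hc; exact ⟨hc, by rw [evG_nil, map_one, Units.val_one, Matrix.mul_one, List.foldl_nil]⟩
  | cons i w ih =>
    intro c hc
    rw [List.foldl_cons]
    obtain ⟨h1, h2⟩ := sep_mul hc (letC i)
    obtain ⟨h3, h4⟩ := ih _ h1
    refine ⟨h3, ?_⟩
    rw [h4, h2, evG_cons, map_mul, Units.val_mul, (is_lt M i).2, Matrix.mul_assoc]

theorem rows_all : ∀ k ≤ 10, rowsOK k = true ∧ colsOK k = true ∧ invOK k = true := by
  intro k hk
  interval_cases k
  exacts [⟨rows0, cols0, inv0⟩, ⟨rows1, cols1, inv1⟩, ⟨rows2, cols2, inv2⟩, ⟨rows3, cols3, inv3⟩,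
    ⟨rows4, cols4, inv4⟩, ⟨rows5, cols5, inv5⟩, ⟨rows6, cols6, inv6⟩, ⟨rows7, cols7, inv7⟩,
    ⟨rows8, cols8, inv8⟩, ⟨rows9, cols9, inv9⟩, ⟨rows10, cols10, inv10⟩]

theorem row_vec {k : ℕ} (hk : k ≤ 10) (a : Fin 4) (s : Fin 248) :
    mX ⟨4 * k + a, by omega⟩ s =
      (matT 248 KData.aC * (M.rho (evG (KData.treeW.getD k []))).val : Mat) ⟨a, by omega⟩ s := by
  rw [← (rows_code M _ _ sep_a.1).2]
  have h := (rows_all k hk).1
  simp only [rowsOK, fz_eq, Bool.and_eq_true, Nat.beq_eq] at h
  have hlt : 248 * a.val + s.val < 992 := by omega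
  have hp := congrArg (fun n => n.testBit (248 * a.val + s.val)) h.1
  have hm := congrArg (fun n => n.testBit (248 * a.val + s.val)) h.2
  simp only [Nat.testBit_mod_two_pow, Nat.testBit_shiftRight, hlt, decide_true, Bool.true_and] at hp hm
  rw [mX, matT, matT, val2, val2, H26.BitCode.cbit, H26.BitCode.cbit, H26.BitCode.cbit,
    H26.BitCode.cbit]
  show b3 ((plusP 248 KData.xC).testBit (248 * (4 * k + a.val) + s.val)) -
    b3 ((minusP 248 KData.xC).testBit (248 * (4 * k + a.val) + s.val)) = _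
  rw [show 248 * (4 * k + a.val) + s.val = 992 * k + (248 * a.val + s.val) by ring, hp, hm]

theorem pair_ok : ([(0, 0), (1, 1), (2, 2), (3, 3), (4, 4), (5, 8), (8, 5), (6, 9), (9, 6), (7, 10),
    (10, 7)] : List (ℕ × ℕ)).all (fun t => Nat.beq (mulC (letC t.1) (letC t.2)) LetData.cI) = true := by
  decide +kernel

include M in
theorem word_inv {k : ℕ} (hk : k ≤ 10) :
    evG (KData.treeW.getD k []) * evG (KData.treeI.getD k []) = 1 := by
  have key : ∀ V I : List ℕ, I.length = V.length →
      ((List.zip V I).all fun t => (t.1 == t.2 && Nat.blt t.1 5) || (t.1 == 5 && t.2 == 8) ||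
        (t.1 == 8 && t.2 == 5) || (t.1 == 6 && t.2 == 9) || (t.1 == 9 && t.2 == 6) ||
        (t.1 == 7 && t.2 == 10) || (t.1 == 10 && t.2 == 7)) = true →
      evG V.reverse * evG I = 1 := by
    intro V
    induction V with
    | nil => intro I hI _; rw [List.length_eq_zero_iff.1 hI]; exact one_mul _
    | cons a V ih =>
      intro I hI hall
      cases I with
      | nil => simp at hI
      | cons b I =>
        rw [List.zip_cons_cons, List.all_cons, Bool.and_eq_true] at hall
        have hmem : (a, b) ∈ ([(0, 0), (1, 1), (2, 2), (3, 3), (4, 4), (5, 8), (8, 5), (6, 9), (9, 6),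
            (7, 10), (10, 7)] : List (ℕ × ℕ)) := by
          have h := hall.1
          simp only [Bool.or_eq_true, Bool.and_eq_true, beq_iff_eq, Nat.blt_eq] at h
          rcases h with (((((⟨rfl, h⟩ | ⟨rfl, rfl⟩) | ⟨rfl, rfl⟩) | ⟨rfl, rfl⟩) | ⟨rfl, rfl⟩) |
            ⟨rfl, rfl⟩) | ⟨rfl, rfl⟩
          · interval_cases a <;> simp
          all_goals simp
        have h0 : Nat.beq (mulC (letC a) (letC b)) LetData.cI = true :=
          List.all_eq_true.1 pair_ok (a, b) hmem
        have g1 : Is (M.rho (lt a * lt b)) (mulC (letC a) (letC b)) := by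
          rw [map_mul]; exact (is_lt M a).mul (is_lt M b)
        have g2 : Is (M.rho 1) LetData.cI := by rw [map_one]; exact is_one
        have e : lt a * lt b = 1 := eqB M g1 g2 h0
        rw [List.reverse_cons, evG_append, evG_cons, evG_nil, mul_one, evG_cons, mul_assoc,
          ← mul_assoc (lt a), e, one_mul]
        exact ih I (by simpa using hI) hall.2
  have h := (rows_all k hk).2.2
  simp only [invOK, Bool.and_eq_true, Nat.beq_eq] at h
  have := key (KData.treeW.getD k []).reverse (KData.treeI.getD k []) (by simpa using h.1) h.2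
  rwa [List.reverse_reverse] at this

theorem col_vec {k : ℕ} (hk : k ≤ 10) (t : Fin 248) (b : Fin 4) :
    mY t ⟨4 * k + b, by omega⟩ =
      ((M.rho (evG (KData.treeI.getD k []))).val * matT 248 KData.fC : Mat) t ⟨b, by omega⟩ := by
  have h := (rows_all k hk).2.1
  simp only [colsOK, fz_eq] at h
  obtain ⟨hR, hR'⟩ := rows_code M (KData.treeW.getD k []) _ (dj_letC 7)
  have col : ∀ j : Fin 248,
      ((matT 248 (letC 7) * (M.rho (evG (KData.treeW.getD k []))).val * mY : Mat)) j
        ⟨4 * k + b, by omega⟩ =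
      (matT 248 (letC 7) * matT 248 KData.fC : Mat) j ⟨b, by omega⟩ := by
    intro j
    rw [← hR', mY, ← (sep_mul hR _).2, ← (sep_mul (dj_letC 7) _).2]
    have h' := List.all_eq_true.1 h j.val (List.mem_range.2 j.isLt)
    simp only [Bool.and_eq_true, Nat.beq_eq, show (16 : ℕ) = 2 ^ 4 from rfl] at h'
    have hp := congrArg (fun n => n.testBit b.val) h'.1
    have hm := congrArg (fun n => n.testBit b.val) h'.2
    simp only [Nat.testBit_mod_two_pow, Nat.testBit_shiftRight, b.isLt, decide_true, Bool.true_and,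
      Nat.add_assoc] at hp hm
    rw [matT, matT, val2, val2, H26.BitCode.cbit, H26.BitCode.cbit, H26.BitCode.cbit,
      H26.BitCode.cbit]
    exact congrArg₂ (fun x y => b3 x - b3 y) hp hm
  set U : Matˣ := M.rho (lt 7) * M.rho (evG (KData.treeW.getD k [])) with hU
  have hUm : (U : Mat) = matT 248 (letC 7) * (M.rho (evG (KData.treeW.getD k []))).val := by
    rw [hU, Units.val_mul, (is_lt M 7).2]
  have hinv : M.rho (evG (KData.treeI.getD k [])) = U⁻¹ * M.rho (lt 7) := by
    rw [hU, mul_inv_rev, inv_mul_cancel_right, ← map_inv, inv_eq_of_mul_eq_one_right (word_inv M hk)]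
  rw [hinv, Units.val_mul, (is_lt M 7).2, Matrix.mul_assoc]
  conv_lhs => rw [← Matrix.one_mul mY, ← Units.inv_mul U, Matrix.mul_assoc]
  rw [Matrix.mul_apply, Matrix.mul_apply]
  refine Finset.sum_congr rfl fun j _ => ?_
  rw [hUm, col j]

attribute [local irreducible] mX mY keyP keyC in
/-- Block `k` at `g` is the first block at the conjugate of `g`. -/
theorem key_conj {c d k : ℕ} {g : T} (hk : k ≤ 10) (hc : Shows M c g)
    (hd : Shows M d (evG (KData.treeW.getD k []) * g * evG (KData.treeI.getD k []))) :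
    keyP c k = keyP d 0 := by
  refine key_congr hc.1 hd.1 hk fun a b => ?_
  have block : ∀ (j : ℕ) (hj : j ≤ 10) (N : Mat),
      (mX * N * mY) ⟨4 * j + a, by omega⟩ ⟨4 * j + b, by omega⟩ =
      ((matT 248 KData.aC * (M.rho (evG (KData.treeW.getD j []))).val) * N *
        ((M.rho (evG (KData.treeI.getD j []))).val * matT 248 KData.fC) : Mat)
        ⟨a, by omega⟩ ⟨b, by omega⟩ := fun j hj N => by
    simp only [Matrix.mul_apply (M := mX * N), Matrix.mul_apply
      (M := (matT 248 KData.aC * (M.rho (evG (KData.treeW.getD j []))).val) * N)]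
    refine Finset.sum_congr rfl fun t _ => ?_
    refine congrArg₂ (· * ·) ?_ (col_vec M hj t b)
    simp only [Matrix.mul_apply (N := N)]
    exact Finset.sum_congr rfl fun s _ => congrArg (· * N s t) (row_vec M hj a s)
  rw [hc.2, hd.2, block k hk]
  have h0 := block 0 (by norm_num) (M.rho (evG (KData.treeW.getD k []) * g *
    evG (KData.treeI.getD k []))).val
  simp only [Nat.mul_zero, Nat.zero_add, show KData.treeW.getD 0 [] = [] from rfl,
    show KData.treeI.getD 0 [] = [] from rfl, evG_nil, map_one, Units.val_one, Matrix.mul_one,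
    Matrix.one_mul] at h0
  rw [h0]
  simp only [map_mul, Units.val_mul, Matrix.mul_assoc]

end H42.ThCent
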