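import Cfsg.Agent.H26.BitCode

/-!
Square matrices over the field with three elements as two bit planes in one number, with a product
computed on the numbers.
-/

set_option autoImplicit false
set_option maxRecDepth 20000

namespace H42.Tri

open H26.BitCode

/-- evaluate `k` at the value of `x` -/
noncomputable def fz {α : Type} (x : ℕ) (k : ℕ → α) : α :=
  Nat.rec (motive := fun _ => α) (k 0) (fun m _ => k (Nat.succ m)) x

theorem fz_eq {α : Type} (x : ℕ) (k : ℕ → α) : fz x k = k x := by cases x <;> rfl

/-- The plane of ones. -/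
def plusP (m c : ℕ) : ℕ := c % 2 ^ (m * m)

/-- The plane of twos. -/
def minusP (m c : ℕ) : ℕ := c >>> (m * m)

/-- A code from its planes. -/
def join (m P M : ℕ) : ℕ := P ||| (M <<< (m * m))

/-- First plane after adding a plane of ones. -/
def addA (P M x : ℕ) : ℕ := P ^^^ (x ^^^ (x &&& M))

/-- Second plane after adding a plane of ones. -/
def addB (P M x : ℕ) : ℕ := M ^^^ (x &&& (P ||| M))

/-- Sum the outer products of the first `n` columns and rows into the planes `P`, `M`. -/
noncomputable def loop (m ones ap am bp bm : ℕ) (n : ℕ) : ℕ → ℕ → ℕ :=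
  Nat.rec (motive := fun _ => ℕ → ℕ → ℕ) (fun P M => join m P M)
    (fun j ih P M =>
      (fun X Y => fz (addA (addB P M X) (addA P M X) Y) fun M2 =>
          fz (addB (addB P M X) (addA P M X) Y) fun P2 => ih P2 M2)
        ((((ap >>> j) &&& ones) * rowC m bp j) ||| (((am >>> j) &&& ones) * rowC m bm j))
        ((((ap >>> j) &&& ones) * rowC m bm j) ||| (((am >>> j) &&& ones) * rowC m bp j))) n

/-- The product of codes. -/
noncomputable def mulT (m ones a b : ℕ) : ℕ :=
  fz a fun a => fz b fun b =>
  fz (plusP m a) fun ap => fz (minusP m a) fun am => fz (plusP m b) fun bp =>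
    fz (minusP m b) fun bm => loop m ones ap am bp bm m 0 0

/-- A bit as an element of the field. -/
def b3 (b : Bool) : ZMod 3 := if b then 1 else 0

/-- The value of an entry of two planes. -/
def val2 (m P M i k : ℕ) : ZMod 3 := b3 (cbit m P i k) - b3 (cbit m M i k)

/-- The matrix of a code. -/
def matT (m c : ℕ) : Matrix (Fin m) (Fin m) (ZMod 3) :=
  fun i k => val2 m (plusP m c) (minusP m c) i.val k.val

/-- The planes of a code are disjoint and short. -/
def Dj (m P M : ℕ) : Prop := P < 2 ^ (m * m) ∧ M < 2 ^ (m * m) ∧ P &&& M = 0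

theorem join_planes {m P M : ℕ} (h : P < 2 ^ (m * m)) :
    plusP m (join m P M) = P ∧ minusP m (join m P M) = M := by
  constructor
  · apply Nat.eq_of_testBit_eq
    intro n
    rw [plusP, join, Nat.testBit_mod_two_pow, Nat.testBit_or, Nat.testBit_shiftLeft]
    by_cases hn : n < m * m
    · simp [hn, Nat.not_le.2 hn]
    · simp [hn, Nat.testBit_lt_two_pow (h.trans_le (Nat.pow_le_pow_right (by norm_num) (not_lt.1 hn)))]
  · apply Nat.eq_of_testBit_eq
    intro n
    rw [minusP, join, Nat.testBit_shiftRight, Nat.testBit_or, Nat.testBit_shiftLeft]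
    simp [Nat.testBit_lt_two_pow (h.trans_le (Nat.pow_le_pow_right (by norm_num) (Nat.le_add_right _ n)))]

theorem dj_bit {P M : ℕ} (h : P &&& M = 0) (n : ℕ) : (P.testBit n && M.testBit n) = false := by
  rw [← Nat.testBit_and, h, Nat.zero_testBit]

theorem add_step {m P M x : ℕ} (h : Dj m P M) (hx : x < 2 ^ (m * m)) :
    Dj m (addA P M x) (addB P M x) ∧ ∀ n,
      b3 ((addA P M x).testBit n) - b3 ((addB P M x).testBit n) =
        b3 (P.testBit n) - b3 (M.testBit n) + b3 (x.testBit n) := by
  obtain ⟨hP, hM, hd⟩ := h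
  refine ⟨⟨Nat.xor_lt_two_pow hP (Nat.xor_lt_two_pow hx (Nat.and_lt_two_pow _ hM)),
    Nat.xor_lt_two_pow hM (Nat.and_lt_two_pow _ (Nat.or_lt_two_pow hP hM)), ?_⟩, fun n => ?_⟩
  · apply Nat.eq_of_testBit_eq
    intro n
    have := dj_bit hd n
    simp only [addA, addB, Nat.testBit_and, Nat.testBit_xor, Nat.testBit_or, Nat.zero_testBit]
    revert this
    cases P.testBit n <;> cases M.testBit n <;> cases x.testBit n <;> simp
  · have := dj_bit hd n
    simp only [addA, addB, Nat.testBit_and, Nat.testBit_xor, Nat.testBit_or]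
    revert this
    cases P.testBit n <;> cases M.testBit n <;> cases x.testBit n <;> decide

theorem loop_succ (m ones ap am bp bm n P M : ℕ) : loop m ones ap am bp bm (n + 1) P M =
    loop m ones ap am bp bm n
      (addB (addB P M ((((ap >>> n) &&& ones) * rowC m bp n) ||| (((am >>> n) &&& ones) * rowC m bm n)))
        (addA P M ((((ap >>> n) &&& ones) * rowC m bp n) ||| (((am >>> n) &&& ones) * rowC m bm n)))
        ((((ap >>> n) &&& ones) * rowC m bm n) ||| (((am >>> n) &&& ones) * rowC m bp n)))
      (addA (addB P M ((((ap >>> n) &&& ones) * rowC m bp n) ||| (((am >>> n) &&& ones) * rowC m bm n)))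
        (addA P M ((((ap >>> n) &&& ones) * rowC m bp n) ||| (((am >>> n) &&& ones) * rowC m bm n)))
        ((((ap >>> n) &&& ones) * rowC m bm n) ||| (((am >>> n) &&& ones) * rowC m bp n))) := by
  show fz (addA _ _ _) (fun M2 => fz (addB _ _ _) fun P2 => loop m ones ap am bp bm n P2 M2) = _
  simp only [fz_eq]

variable {m ones : ℕ}

theorem plane_bit (hm : 0 < m) (ho : ones = onesOf m) (a b j : ℕ) (hj : j < m) (i k : ℕ)
    (hi : i < m) (hk : k < m) :
    (((a >>> j) &&& ones) * rowC m b j).testBit (m * i + k) = (cbit m a i j && cbit m b j k) := by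
  subst ho; exact summand_bit hm a b j hj i k hi hk

theorem loop_spec (hm : 0 < m) (ho : ones = onesOf m) {ap am : ℕ} (hd : ap &&& am = 0) (bp bm : ℕ) :
    ∀ n ≤ m, ∀ P M : ℕ, Dj m P M →
      Dj m (plusP m (loop m ones ap am bp bm n P M)) (minusP m (loop m ones ap am bp bm n P M)) ∧
      loop m ones ap am bp bm n P M < 2 ^ (m * m + m * m) ∧
      ∀ i k, i < m → k < m →
        val2 m (plusP m (loop m ones ap am bp bm n P M)) (minusP m (loop m ones ap am bp bm n P M)) i k =
          val2 m P M i k + ∑ j : Fin n, val2 m ap am i j.val * val2 m bp bm j.val k := by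
  intro n
  induction n with
  | zero =>
    intro _ P M h
    obtain ⟨e1, e2⟩ := join_planes (M := M) h.1
    show Dj m (plusP m (join m P M)) (minusP m (join m P M)) ∧ join m P M < _ ∧ _
    rw [e1, e2]
    refine ⟨h, Nat.or_lt_two_pow (h.1.trans_le (Nat.pow_le_pow_right (by norm_num) (Nat.le_add_right _ _))) ?_,
      fun i k _ _ => ?_⟩
    · rw [Nat.shiftLeft_eq, pow_add]
      exact Nat.mul_lt_mul_of_pos_right h.2.1 (Nat.two_pow_pos _)
    · show val2 m (plusP m (join m P M)) (minusP m (join m P M)) i k = _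
      rw [e1, e2]
      simp
  | succ n ih =>
    intro hn P M h
    have hj : n < m := by omega
    set cp := (ap >>> n) &&& ones with hcp
    set cm := (am >>> n) &&& ones with hcm
    set rp := rowC m bp n with hrp
    set rm := rowC m bm n with hrm
    set X := (cp * rp) ||| (cm * rm) with hX
    set Y := (cp * rm) ||| (cm * rp) with hY
    have lt : ∀ a b : ℕ, ((a >>> n) &&& ones) * rowC m b n < 2 ^ (m * m) := fun a b => by
      subst ho; exact summand_lt hm a b n hj
    have hXlt : X < 2 ^ (m * m) := Nat.or_lt_two_pow (lt ap bp) (lt am bm)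
    have hYlt : Y < 2 ^ (m * m) := Nat.or_lt_two_pow (lt ap bm) (lt am bp)
    obtain ⟨h1, v1⟩ := add_step h hXlt
    obtain ⟨h2, v2⟩ := add_step (P := addB P M X) (M := addA P M X)
      ⟨h1.2.1, h1.1, by rw [Nat.and_comm]; exact h1.2.2⟩ hYlt
    have e : loop m ones ap am bp bm (n + 1) P M = loop m ones ap am bp bm n
        (addB (addB P M X) (addA P M X) Y) (addA (addB P M X) (addA P M X) Y) := by
      rw [loop_succ]
    rw [e]
    obtain ⟨r1, r2, r3⟩ := ih (by omega) _ _ ⟨h2.2.1, h2.1, by rw [Nat.and_comm]; exact h2.2.2⟩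
    refine ⟨r1, r2, fun i k hi hk => ?_⟩
    rw [r3 i k hi hk, Fin.sum_univ_castSucc]
    simp only [Fin.val_castSucc, Fin.val_last]
    have w2 := v2 (m * i + k)
    have w1 := v1 (m * i + k)
    have hs : val2 m ap am i n * val2 m bp bm n k =
        b3 (X.testBit (m * i + k)) - b3 (Y.testBit (m * i + k)) := by
      have hdd : (ap.testBit (m * i + n) && am.testBit (m * i + n)) = false := dj_bit hd _
      rw [hX, hY, Nat.testBit_or, Nat.testBit_or]
      simp only [hcp, hcm, hrp, hrm, plane_bit hm ho _ _ n hj i k hi hk, val2, cbit]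
      revert hdd
      cases ap.testBit (m * i + n) <;> cases am.testBit (m * i + n) <;>
        cases bp.testBit (m * n + k) <;> cases bm.testBit (m * n + k) <;> decide
    rw [hs]
    simp only [val2, cbit] at *
    linear_combination -w2 + w1

theorem mulT_spec (hm : 0 < m) (ho : ones = onesOf m) {a : ℕ} (b : ℕ)
    (hd : plusP m a &&& minusP m a = 0) :
    Dj m (plusP m (mulT m ones a b)) (minusP m (mulT m ones a b)) ∧
      mulT m ones a b < 2 ^ (m * m + m * m) ∧
      matT m (mulT m ones a b) = matT m a * matT m b := by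
  have e : mulT m ones a b =
      loop m ones (plusP m a) (minusP m a) (plusP m b) (minusP m b) m 0 0 := by
    simp only [mulT, fz_eq]
  rw [e]
  obtain ⟨r1, r2, r3⟩ := loop_spec hm ho hd (plusP m b) (minusP m b) m le_rfl 0 0
    ⟨Nat.two_pow_pos _, Nat.two_pow_pos _, rfl⟩
  refine ⟨r1, r2, ?_⟩
  ext i k
  rw [Matrix.mul_apply]
  show val2 m _ _ i.val k.val = _
  rw [r3 i.val k.val i.isLt k.isLt]
  simp [val2, cbit, b3, matT]

/-- Equal values at a place of disjoint planes give equal bits. -/
theorem bits_of_val {P M P' M' i k : ℕ} (h : P &&& M = 0) (h' : P' &&& M' = 0)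
    (e : val2 m P M i k = val2 m P' M' i k) :
    cbit m P i k = cbit m P' i k ∧ cbit m M i k = cbit m M' i k := by
  have d1 := dj_bit h (m * i + k)
  have d2 := dj_bit h' (m * i + k)
  revert e d1 d2
  simp only [val2, cbit]
  cases P.testBit (m * i + k) <;> cases M.testBit (m * i + k) <;> cases P'.testBit (m * i + k) <;>
    cases M'.testBit (m * i + k) <;> decide

end H42.Tri
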