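import Cfsg.Agent.H62.Th.Word
import Cfsg.Agent.H42.ThCent.Tri
import Cfsg.Agent.H42.ThCent.LetData

/-!
The two-plane codes of the letters stand for the matrices of the packed codes.
-/

set_option autoImplicit false
set_option maxRecDepth 100000
set_option Elab.async false

namespace H42.ThCent

open H42.Tri

/-- The code of a letter: a, b, c, d, e, s, t, u and the inverses of the last three. -/
def letC : ℕ → ℕ
  | 0 => LetData.l0
  | 1 => LetData.l1
  | 2 => LetData.l2
  | 3 => LetData.l3
  | 4 => LetData.l4
  | 5 => LetData.l5
  | 6 => LetData.l6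
  | 7 => LetData.l7
  | 8 => LetData.l8
  | 9 => LetData.l9
  | 10 => LetData.l10
  | _ => LetData.cI

/-- The packed rows of a letter. -/
def genL : ℕ → List ℕ
  | 0 => H62.Th.genA
  | 1 => H62.Th.genB
  | 2 => H62.Th.genC
  | 3 => H62.Th.genD
  | 4 => H62.Th.genE
  | 5 => H62.Th.genS
  | 6 => H62.Th.genT
  | _ => H62.Th.genU

/-- A packed row from two planes. -/
def spread (P M i : ℕ) : ℕ :=
  H62.Th.pk 248 fun k => (P.testBit (248 * i + k)).toNat + 2 * (M.testBit (248 * i + k)).toNat

/-- The two codes of a letter agree. -/
noncomputable def agreeB (g : ℕ) : Bool :=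
  fz (plusP 248 (letC g)) fun P => fz (minusP 248 (letC g)) fun M =>
    Nat.beq (Nat.land P M) 0 && Nat.blt (letC g) (2 ^ 123008) &&
      ((genL g) == (List.range 248).map (spread P M))

theorem agree0 : agreeB 0 = true := by decide +kernel
theorem agree1 : agreeB 1 = true := by decide +kernel
theorem agree2 : agreeB 2 = true := by decide +kernel
theorem agree3 : agreeB 3 = true := by decide +kernel
theorem agree4 : agreeB 4 = true := by decide +kernel
theorem agree5 : agreeB 5 = true := by decide +kernel
theorem agree6 : agreeB 6 = true := by decide +kernel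
theorem agree7 : agreeB 7 = true := by decide +kernel

end H42.ThCent
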