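import Cfsg.Agent.H42.ThCent.KSpec
import Cfsg.Agent.H42.J4Cent.CountAbs
import Cfsg.Agent.H96.ThSimple.Cover
import Cfsg.Agent.H93.Th.Rho

/-!
The class of the involution inside the subgroup generated by a, …, t, the bound on its centraliser
from eleven double cosets, and the statement about that centraliser.
-/

set_option autoImplicit false
set_option maxRecDepth 100000
set_option maxHeartbeats 1000000

open Cfsg Subgroup H42.Tri
open scoped Classical

namespace H42.ThCent

attribute [local irreducible] mulT plusP minusP matT mulC letC mX mY keyP keyC leaf maybeKey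

/-- The sizes of the orbits of the subgroup on its cosets. -/
def orbitSize : List ℕ :=
  [1, 17199, 45864, 179712, 1304576, 2201472, 5031936, 8128512, 8805888, 11741184, 105670656]

/-- The bounds on the members of the class which stay inside it. -/
def stayBound : List ℕ := [819, 3, 1, 0, 0, 0, 0, 0, 0, 0, 0]

theorem dsize_eq : ∀ i : Fin 11, H96.ThSimple.dsize i = orbitSize.getD i.val 0 := by decide +kernel

theorem keep_le : ((List.range 11).all fun k =>
    k == 0 || Nat.ble (KData.keep.getD k []).length (stayBound.getD k 0)) = true := by decide +kernel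

theorem keys_strict : ((List.range 818).all fun i =>
    Nat.blt (KData.keys.getD i 0) (KData.keys.getD (i + 1) 0)) = true := by decide +kernel

theorem keys_marked : (KData.keys.all fun x => KData.bitmap.testBit (x % 65521)) = true := by
  decide +kernel

theorem keys_len : KData.keys.length = 819 := by decide +kernel

theorem maybeKey_key {j : ℕ} (hj : j < 819) : maybeKey (KData.keys.getD j 0) = true := by
  have hm : KData.keys.getD j 0 ∈ KData.keys := by
    rw [List.getD_eq_getElem?_getD, List.getElem?_eq_getElem (by rw [keys_len]; exact hj)]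
    exact List.getElem_mem _
  rw [maybeKey, List.all_eq_true.1 keys_marked _ hm, Bool.true_and, List.any_eq_true]
  exact ⟨_, hm, Nat.beq_refl _⟩

theorem keys_inj {i j : ℕ} (hi : i < 819) (hj : j < 819)
    (e : KData.keys.getD i 0 = KData.keys.getD j 0) : i = j := by
  have step : ∀ n < 818, KData.keys.getD n 0 < KData.keys.getD (n + 1) 0 := fun n hn =>
    by simpa [Nat.blt_eq] using List.all_eq_true.1 keys_strict n (List.mem_range.2 hn)
  have mono : ∀ d n, n + d + 1 < 819 → KData.keys.getD n 0 < KData.keys.getD (n + d + 1) 0 := by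
    intro d
    induction d with
    | zero => intro n hn; exact step n (by omega)
    | succ d ih => intro n hn; exact (ih n (by omega)).trans (step _ (by omega))
  rcases lt_trichotomy i j with h | h | h
  · obtain ⟨d, rfl⟩ : ∃ d, j = i + d + 1 := ⟨j - i - 1, by omega⟩
    exact absurd e (mono d i hj).ne
  · exact h
  · obtain ⟨d, rfl⟩ : ∃ d, i = j + d + 1 := ⟨i - j - 1, by omega⟩
    exact absurd e.symm (mono d j hi).ne

/-- The representatives of the double cosets. -/
def rep (i : Fin 11) : T := evG (KData.treeI.getD i.val [])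

theorem card_cent_le' [Finite T] (M : Model) (hN : Nat.card nT = 634023936)
    (hcover : ∀ h : T, ∃ i : Fin 11, ∃ n ∈ nT, ∃ m ∈ nT, h = n * rep i * m)
    (hsize : ∀ i : Fin 11, Nat.card {c : T ⧸ nT // ∃ n ∈ nT,
      c = ((n * rep i : T) : T ⧸ nT)} ≤ orbitSize.getD i.val 0) :
    Nat.card ↥(centralizer ({zG} : Set T)) ≤ 92897280 := by
  classical
  haveI : Fintype T := Fintype.ofFinite _
  choose pth hpth using fun i : Fin 819 => exists_member M i.isLt
  choose cd hcd using hpth
  let e : Fin 819 → T := fun i => memG (pth i)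
  have hinj : Function.Injective e := fun i j hij => by
    have hkey : keyP (cd i) 0 = keyP (cd j) 0 :=
      key_congr (hcd i).1.1 (hcd j).1.1 (by norm_num) fun a b => by
        simp only [Nat.mul_zero, Nat.zero_add, (hcd i).1.2, (hcd j).1.2]
        rw [show memG (pth i) = memG (pth j) from hij]
    rw [leaf_key (hcd i).2, leaf_key (hcd j).2] at hkey
    exact Fin.ext (keys_inj i.isLt j.isLt hkey)
  let O : Finset T := Finset.univ.image e
  have hO : O.card = 819 := by
    rw [Finset.card_image_of_injective _ hinj, Finset.card_univ, Fintype.card_fin]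
  have hmem : ∀ x ∈ O, ∃ n ∈ nT, n * zG * n⁻¹ = x := by
    intro x hx
    obtain ⟨i, -, rfl⟩ := Finset.mem_image.1 hx
    exact ⟨(pathG (pth i))⁻¹, inv_mem (pathG_mem _), by rw [inv_inv]; rfl⟩
  -- the whole class
  let cls : Finset T := Finset.univ.filter fun x => ∃ n ∈ nT, n * zG * n⁻¹ = x
  have hcls : cls.card ≤ 819 := by
    set S := (centralizer ({zG} : Set T) ⊓ nT).subgroupOf nT with hS
    have hs : Nat.card S = Nat.card ↥(centralizer ({zG} : Set T) ⊓ nT) :=
      Nat.card_congr (subgroupOfEquivOfLe inf_le_right).toEquiv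
    have hidx : S.index ≤ 819 := by
      have h := Subgroup.card_mul_index S
      rw [hN] at h
      have h2 := Nat.mul_le_mul_right S.index (hs ▸ card_meet_N M)
      rw [h] at h2
      by_contra hc
      have h3 := Nat.mul_le_mul_left 774144 (not_le.1 hc)
      omega
    refine le_trans ?_ hidx
    rw [index_eq_card, ← Fintype.card_coe, ← Nat.card_eq_fintype_card]
    refine Nat.card_le_card_of_surjective
      (fun c : nT ⧸ S => (⟨(c.out : T) * zG * (c.out : T)⁻¹,
        Finset.mem_filter.2 ⟨Finset.mem_univ _, _, c.out.2, rfl⟩⟩ : cls)) ?_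
    rintro ⟨x, hx⟩
    obtain ⟨n, hn, rfl⟩ := (Finset.mem_filter.1 hx).2
    refine ⟨QuotientGroup.mk ⟨n, hn⟩, Subtype.ext ?_⟩
    obtain ⟨u, hu⟩ := QuotientGroup.mk_out_eq_mul S (⟨n, hn⟩ : nT)
    show (((QuotientGroup.mk (⟨n, hn⟩ : nT) : nT ⧸ S).out : nT) : T) * zG * _ = _
    rw [hu]
    have hu2 := mem_centralizer_singleton_iff.1 (mem_subgroupOf.1 u.2).1
    push_cast
    rw [mul_assoc n ((u : nT) : T) zG, hu2]
    group
  have hOcls : O = cls := Finset.eq_of_subset_of_card_le
    (fun x hx => Finset.mem_filter.2 ⟨Finset.mem_univ _, hmem x hx⟩) (hcls.trans (le_of_eq hO.symm))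
  have hclosed : ∀ n ∈ nT, n * zG * n⁻¹ ∈ O := fun n hn => by
    rw [hOcls]
    exact Finset.mem_filter.2 ⟨Finset.mem_univ _, n, hn, rfl⟩
  have hk : ∀ i : Fin 11,
      (O.filter fun x => (rep i)⁻¹ * x * rep i ∈ O).card ≤ stayBound.getD i.val 0 := by
    intro i
    have h := List.all_eq_true.1 keep_le i.val (List.mem_range.2 i.isLt)
    rw [Bool.or_eq_true, beq_iff_eq, Nat.ble_eq] at h
    rcases h with h | hl
    · refine (Finset.card_filter_le _ _).trans ?_
      rw [hO, h]
      exact le_refl _
    · rcases Nat.eq_zero_or_pos i.val with h0 | h1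
      · refine (Finset.card_filter_le _ _).trans ?_
        rw [hO, h0]
        exact le_refl _
      refine le_trans ?_ hl
      refine le_trans (Finset.card_le_card (t := ((KData.keep.getD i.val []).toFinset.filter
        (· < 819)).image fun j => if hj : j < 819 then e ⟨j, hj⟩ else 1) ?_)
        (Finset.card_image_le.trans ((Finset.card_filter_le _ _).trans (List.toFinset_card_le _)))
      intro x hx
      rw [Finset.mem_filter] at hx
      obtain ⟨a, -, rfl⟩ := Finset.mem_image.1 hx.1
      obtain ⟨b, -, hb⟩ := Finset.mem_image.1 hx.2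
      have hinv : (rep i)⁻¹ = evG (KData.treeW.getD i.val []) :=
        inv_eq_of_mul_eq_one_left (word_inv M (by omega))
      have hkey : keyP (cd a) i.val = keyP (cd b) 0 :=
        key_conj M (by omega) (hcd a).1 (by
          rw [← hinv, ← show rep i = evG (KData.treeI.getD i.val []) from rfl,
            ← show e b = (rep i)⁻¹ * e a * rep i from hb]
          exact (hcd b).1)
      rcases leaf_keep (hcd a).2 h1 (by omega) with hm | hm
      · exact Finset.mem_image.2 ⟨a.val, Finset.mem_filter.2 ⟨List.mem_toFinset.2 hm, a.isLt⟩,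
          by rw [dif_pos a.isLt]⟩
      · rw [hkey, leaf_key (hcd b).2, maybeKey_key b.isLt] at hm
        exact absurd hm (by simp)
  have h := H42.J4Cent.card_cent_le nT zG O hmem hclosed rep (fun i => orbitSize.getD i.val 0)
    (fun i => stayBound.getD i.val 0) hcover hsize hk
  have hsum : ∑ i : Fin 11, orbitSize.getD i.val 0 * stayBound.getD i.val 0 = 98280 := by
    decide +kernel
  rw [hsum, hN, hO] at h
  refine Nat.le_of_mul_le_mul_right (h.trans ?_) (show 0 < 819 ^ 2 by norm_num)
  norm_num

theorem rho_gen {i : ℕ} (hi : i < 8) :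
    ((H93.Th.rho (H96.ThSimple.gen (gn i)) : Matˣ) : Mat) = H62.Th.matOf (H62.Th.code i) := by
  have h : H62.Th.idx (gn i) = i := by interval_cases i <;> rfl
  have e := H93.Th.rho_of (gn i)
  rw [h] at e
  exact e

theorem rho_injective [IsSimpleGroup T] : Function.Injective (H93.Th.rho : T →* Matˣ) := by
  rw [← MonoidHom.ker_eq_bot_iff]
  refine (MonoidHom.normal_ker _).eq_bot_or_eq_top.resolve_right fun h => ?_
  have h1 : (H93.Th.rho : T →* Matˣ) (H96.ThSimple.gen (gn 0)) = 1 :=
    MonoidHom.mem_ker.1 (h ▸ mem_top _)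
  have e : matT 248 (letC 0) = matT 248 LetData.cI := by
    rw [← matOf_eq (show 0 < 8 by norm_num), ← rho_gen (show 0 < 8 by norm_num), h1, matT_cI]
    rfl
  have hlt : CData.entA.1 < 248 ∧ CData.entA.2 < 248 := by decide +kernel
  have e2 : val2 248 (plusP 248 (letC 0)) (minusP 248 (letC 0)) CData.entA.1 CData.entA.2 =
      val2 248 (plusP 248 LetData.cI) (minusP 248 LetData.cI) CData.entA.1 CData.entA.2 := by
    have := congrFun (congrFun e ⟨_, hlt.1⟩) ⟨_, hlt.2⟩
    simpa [matT] using this
  have := (bits_of_val (dj_letC 0) (Nat.eq_of_beq_eq_true cI_dj) e2).1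
  simp only [H26.BitCode.cbit] at this
  have hne := a_ne
  rw [this, beq_self_eq_true] at hne
  exact Bool.noConfusion hne

/-- The faithful representation, once the group is known to be simple. -/
noncomputable def model [IsSimpleGroup T] : Model :=
  ⟨H93.Th.rho, fun _ hi => rho_gen hi, rho_injective⟩

/-- The statement, from the data of the endgame. -/
theorem statement_of {P : Type*} [Group P] (D : H96.ThSimple.Data P)
    (hq : ∀ i, D.q i = ((rep i : T) : T ⧸ D.iota.range)) :
    ∃ (G : Type) (_ : Group G) (_ : Finite G), Cfsg.IsTh G ∧ ∃ z : G, orderOf z = 2 ∧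
      ∃ (Q : Subgroup (Subgroup.centralizer ({z} : Set G))) (_ : Q.Normal), Nat.card Q = 2 ^ 9 ∧
        Cfsg.IsExtraspecial 2 Q ∧ Nonempty ((Subgroup.centralizer ({z} : Set G)) ⧸ Q ≃*
          alternatingGroup (Fin 9)) := by
  haveI hfin : Finite T := Nat.finite_of_card_ne_zero (by rw [D.card_GT]; norm_num)
  haveI : Finite P := Nat.finite_of_card_ne_zero (by rw [D.card_P]; norm_num)
  have hr : D.iota.range = nT := D.range_eq
  have hcover : ∀ h : T, ∃ i : Fin 11, ∃ n ∈ nT, ∃ m ∈ nT, h = n * rep i * m := by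
    intro h
    obtain ⟨i, n, hn⟩ := D.cover ((h : T) : T ⧸ D.iota.range)
    rw [hq i, MulAction.Quotient.smul_coe, QuotientGroup.eq] at hn
    refine ⟨i, D.iota n, hr ▸ ⟨n, rfl⟩, (D.iota n * rep i)⁻¹ * h, hr ▸ hn, ?_⟩
    rw [← mul_assoc, mul_inv_cancel, one_mul]
  have hsize : ∀ i : Fin 11, Nat.card {c : T ⧸ nT // ∃ n ∈ nT,
      c = ((n * rep i : T) : T ⧸ nT)} ≤ orbitSize.getD i.val 0 := by
    intro i
    refine le_trans ?_ ((D.index_St i).trans (dsize_eq i).le)
    let f : P ⧸ D.St i → {c : T ⧸ nT // ∃ n ∈ nT, c = ((n * rep i : T) : T ⧸ nT)} :=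
      fun x => ⟨((D.iota x.out * rep i : T) : T ⧸ nT), D.iota x.out, hr ▸ ⟨_, rfl⟩, rfl⟩
    refine Nat.card_le_card_of_surjective f ?_
    rintro ⟨c, n, hn, rfl⟩
    obtain ⟨a, rfl⟩ : n ∈ D.iota.range := hr ▸ hn
    refine ⟨QuotientGroup.mk a, Subtype.ext ?_⟩
    obtain ⟨u, hu⟩ := QuotientGroup.mk_out_eq_mul (D.St i) a
    show ((D.iota (QuotientGroup.mk a : P ⧸ D.St i).out * rep i : T) : T ⧸ nT) = _
    rw [hu, map_mul, QuotientGroup.eq, ← hr]
    have h := D.fix i u u.2
    rw [hq i, MulAction.Quotient.smul_coe, QuotientGroup.eq] at h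
    have e : (D.iota a * D.iota u * rep i)⁻¹ * (D.iota a * rep i) =
        (D.iota u * rep i)⁻¹ * rep i := by group
    rw [e]
    exact h
  haveI : IsSimpleGroup T := D.isTh_presented.1
  let M : Model := model
  have hup := card_cent_le' M D.card_nTh hcover hsize
  exact ⟨T, inferInstance, hfin, D.isTh_presented, body (lifts M) hup⟩

end H42.ThCent
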