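import Cfsg.Agent.H42.ThCent.Letters
import Cfsg.Agent.H96.ThSimple.Main

/-!
Words in the presented Thompson group and their codes, relative to a faithful 248-dimensional
representation with the packed matrices as generators.
-/

set_option autoImplicit false
set_option maxRecDepth 100000

open Cfsg H42.Tri

namespace H42.ThCent

/-- The group. -/
abbrev T : Type := H96.ThSimple.GT

/-- Its matrices. -/
abbrev Mat : Type := Matrix (Fin 248) (Fin 248) (ZMod 3)

/-- A numbered generator. -/
def gn : ℕ → Cfsg.Spor.Th.Gen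
  | 0 => .a
  | 1 => .b
  | 2 => .c
  | 3 => .d
  | 4 => .e
  | 5 => .s
  | 6 => .t
  | _ => .u

/-- The letters: a, b, c, d, e, s, t, u and the inverses of the last three as powers. -/
def lt (i : ℕ) : T :=
  if i < 8 then H96.ThSimple.gen (gn i) else
    if i = 8 then H96.ThSimple.gen .s ^ 6 else
      if i = 9 then H96.ThSimple.gen .t ^ 2 else if i = 10 then H96.ThSimple.gen .u ^ 3 else 1

/-- The value of a word. -/
def evG (w : List ℕ) : T := (w.map lt).prod

theorem evG_nil : evG [] = 1 := rfl
theorem evG_cons (i : ℕ) (w : List ℕ) : evG (i :: w) = lt i * evG w := rfl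
theorem evG_append (v w : List ℕ) : evG (v ++ w) = evG v * evG w := by
  rw [evG, List.map_append, List.prod_append]; rfl

/-- A faithful representation by the given matrices. -/
structure Model where
  rho : T →* Matˣ
  gen_eq : ∀ i < 8, ((rho (H96.ThSimple.gen (gn i)) : Matˣ) : Mat) = H62.Th.matOf (H62.Th.code i)
  inj : Function.Injective rho

/-- The product of codes. -/
noncomputable def mulC (a b : ℕ) : ℕ := mulT 248 LetData.ones a b

theorem ones_eq : LetData.ones = H26.BitCode.onesOf 248 := by decide +kernel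

/-- A unit with disjoint code `c`. -/
def Is (u : Matˣ) (c : ℕ) : Prop := plusP 248 c &&& minusP 248 c = 0 ∧ (u : Mat) = matT 248 c

theorem Is.mul {u v : Matˣ} {a b : ℕ} (hu : Is u a) (hv : Is v b) : Is (u * v) (mulC a b) := by
  obtain ⟨h1, -, h3⟩ := mulT_spec (m := 248) (by norm_num) ones_eq b hu.1
  refine ⟨h1.2.2, ?_⟩
  rw [mulC, h3, Units.val_mul, hu.2, hv.2]

theorem planes_ok : ((List.range 12).all fun g =>
    Nat.beq (Nat.land (plusP 248 (letC g)) (minusP 248 (letC g))) 0) = true := by decide +kernel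

theorem dj_letC (g : ℕ) : plusP 248 (letC g) &&& minusP 248 (letC g) = 0 := by
  have e : letC g = letC (min g 11) := by
    by_cases h : g ≤ 11
    · rw [min_eq_left h]
    · rw [min_eq_right (by omega)]
      obtain ⟨k, rfl⟩ : ∃ k, g = k + 11 := ⟨g - 11, by omega⟩
      rfl
  rw [e]
  exact Nat.eq_of_beq_eq_true (List.all_eq_true.1 planes_ok _ (List.mem_range.2 (by omega)))

theorem cI_bits :
    ((List.range 248).all fun i => (List.range 248).all fun k =>
      ((plusP 248 LetData.cI).testBit (248 * i + k) == Nat.beq i k) &&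
        !(minusP 248 LetData.cI).testBit (248 * i + k)) = true := by decide +kernel

theorem matT_cI : matT 248 LetData.cI = (1 : Mat) := by
  ext i k
  have h := List.all_eq_true.1 (List.all_eq_true.1 cI_bits i.val (List.mem_range.2 i.isLt)) k.val
    (List.mem_range.2 k.isLt)
  simp only [Bool.and_eq_true, beq_iff_eq, Bool.not_eq_true'] at h
  rw [matT, val2, H26.BitCode.cbit, H26.BitCode.cbit, h.1, h.2, Matrix.one_apply]
  by_cases e : i = k
  · subst e; simp [b3]
  · rw [if_neg e, Bool.eq_false_iff.2 (fun hb => e (Fin.ext (Nat.eq_of_beq_eq_true hb)))]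
    simp [b3]

theorem cI_dj : Nat.beq (plusP 248 LetData.cI &&& minusP 248 LetData.cI) 0 = true := by
  decide +kernel

attribute [local irreducible] plusP minusP

theorem is_one : Is (1 : Matˣ) LetData.cI := by
  refine ⟨Nat.eq_of_beq_eq_true cI_dj, ?_⟩
  rw [Units.val_one, matT_cI]

theorem Is.pow {u : Matˣ} {c : ℕ} (h : Is u c) :
    ∀ n, Is (u ^ n) (Nat.rec LetData.cI (fun _ acc => mulC acc c) n)
  | 0 => by rw [pow_zero]; exact is_one
  | n + 1 => by rw [pow_succ]; exact (h.pow n).mul h

theorem matOf_eq {g : ℕ} (hg : g < 8) : H62.Th.matOf (H62.Th.code g) = matT 248 (letC g) := by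
  have h : agreeB g = true := by
    interval_cases g
    exacts [agree0, agree1, agree2, agree3, agree4, agree5, agree6, agree7]
  simp only [agreeB, fz_eq, Bool.and_eq_true, beq_iff_eq] at h
  have hc : H62.Th.code g = H62.Th.asm (genL g) := by interval_cases g <;> rfl
  rw [hc, h.2]
  set P := plusP 248 (letC g)
  set M := minusP 248 (letC g)
  show H62.Th.matOf (H62.Th.asm ((List.range 248).map fun i => H62.Th.pk 248 fun k =>
    (P.testBit (248 * i + k)).toNat + 2 * (M.testBit (248 * i + k)).toNat)) = _
  rw [H62.Th.asm_eq 248 fun i k => (P.testBit (248 * i + k)).toNat + 2 * (M.testBit (248 * i + k)).toNat]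
  set f : ℕ → ℕ := fun l =>
    (P.testBit (248 * (l / 248) + l % 248)).toNat + 2 * (M.testBit (248 * (l / 248) + l % 248)).toNat
  have hf : ∀ l, f l < 2 ^ 10 := fun l => by
    have a1 := Bool.toNat_le (P.testBit (248 * (l / 248) + l % 248))
    have a2 := Bool.toNat_le (M.testBit (248 * (l / 248) + l % 248))
    show _ + 2 * _ < 2 ^ 10
    omega
  ext i k
  show ((H62.Th.dig (H62.Th.pk (248 * 248) f) (248 * i.val + k.val) : ℕ) : ZMod 3) = _
  have hl : 248 * i.val + k.val < 248 * 248 := by omega
  have hdig : H62.Th.dig (H62.Th.pk (248 * 248) f) (248 * i.val + k.val) = f (248 * i.val + k.val) :=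
    H62.Th.pk_inj _ (fun l _ => H62.Th.dig_lt _ l) (fun l _ => hf l)
      (H62.Th.pk_dig _ (H62.Th.pk_lt _ fun l _ => hf l)) _ hl
  rw [hdig]
  show ((f (248 * i.val + k.val) : ℕ) : ZMod 3) = _
  have e1 : (248 * i.val + k.val) / 248 = i.val := by omega
  have e2 : (248 * i.val + k.val) % 248 = k.val := by omega
  show (((P.testBit (248 * ((248 * i.val + k.val) / 248) + (248 * i.val + k.val) % 248)).toNat +
    2 * (M.testBit (248 * ((248 * i.val + k.val) / 248) + (248 * i.val + k.val) % 248)).toNat : ℕ) :
    ZMod 3) = val2 248 P M i.val k.val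
  rw [e1, e2, val2, H26.BitCode.cbit, H26.BitCode.cbit]
  cases P.testBit (248 * i.val + k.val) <;> cases M.testBit (248 * i.val + k.val) <;> decide

/-- The code of a word. -/
noncomputable def evC (w : List ℕ) : ℕ := w.foldr (fun i c => fz c fun c => mulC (letC i) c) LetData.cI

/-- The powers used as inverse letters. -/
noncomputable def powB (g n k : ℕ) : Bool :=
  Nat.beq (Nat.rec (motive := fun _ => ℕ) LetData.cI (fun _ acc => mulC acc (letC g)) n) (letC k)

theorem powS : powB 5 6 8 = true := by decide +kernel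
theorem powT : powB 6 2 9 = true := by decide +kernel
theorem powU : powB 7 3 10 = true := by decide +kernel

variable (M : Model)

theorem is_gen {i : ℕ} (hi : i < 8) : Is (M.rho (H96.ThSimple.gen (gn i))) (letC i) :=
  ⟨dj_letC i, (M.gen_eq i hi).trans (matOf_eq hi)⟩

theorem is_lt (i : ℕ) : Is (M.rho (lt i)) (letC i) := by
  have key : ∀ g n k, g < 8 → powB g n k = true →
      Is (M.rho (H96.ThSimple.gen (gn g) ^ n)) (letC k) := fun g n k hg h => by
    rw [map_pow, ← Nat.eq_of_beq_eq_true h]
    exact (is_gen M hg).pow n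
  unfold lt
  split_ifs with h h1 h2 h3
  · exact is_gen M h
  · subst h1; exact key 5 6 8 (by norm_num) powS
  · subst h2; exact key 6 2 9 (by norm_num) powT
  · subst h3; exact key 7 3 10 (by norm_num) powU
  · obtain ⟨k, rfl⟩ : ∃ k, i = k + 11 := ⟨i - 11, by omega⟩
    rw [map_one]; exact is_one

theorem is_ev (w : List ℕ) : Is (M.rho (evG w)) (evC w) := by
  induction w with
  | nil => rw [evG_nil, map_one]; exact is_one
  | cons i w ih =>
    show Is _ (fz (evC w) fun c => mulC (letC i) c)
    rw [fz_eq, evG_cons, map_mul]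
    exact (is_lt M i).mul ih

theorem eq_of_is {g h : T} {c : ℕ} (hg : Is (M.rho g) c) (hh : Is (M.rho h) c) : g = h :=
  M.inj (Units.ext (hg.2.trans hh.2.symm))

theorem ne_of_entry {g h : T} {c d i k : ℕ} (hg : Is (M.rho g) c) (hh : Is (M.rho h) d)
    (hi : i < 248) (hk : k < 248)
    (hne : ((plusP 248 c).testBit (248 * i + k) == (plusP 248 d).testBit (248 * i + k)) = false) :
    g ≠ h := by
  rintro rfl
  have e : matT 248 c = matT 248 d := hg.2.symm.trans hh.2
  have e2 : val2 248 (plusP 248 c) (minusP 248 c) i k = val2 248 (plusP 248 d) (minusP 248 d) i k :=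
    congrFun (congrFun e ⟨i, hi⟩) ⟨k, hk⟩
  have := (bits_of_val hg.1 hh.1 e2).1
  simp only [H26.BitCode.cbit] at this
  rw [this, beq_self_eq_true] at hne
  exact Bool.noConfusion hne

end H42.ThCent
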